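import Mathlib
import Cfsg.Agent.Lib.Helper1.Basic

set_option autoImplicit false
set_option linter.style.haveILetI false

/-!
Fixed-point-free endomorphisms of finite groups: norm recursion, restriction to invariant
subgroups and quotients, invariant Sylow subgroups, and the trace lemma (an invariant subgroup of
order prime to an invariant abelian normal subgroup centralises it when the endomorphism has
prime order).
-/

namespace Cfsg.Agent.Lib.Helper1

open MonoidHom

section FpfBasic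

variable {G : Type*} [Group G]

/-- The twisted norm `a * φ a * ... * φ^(i-1) a`, by the recursion
`N (i+1) a = a * φ (N i a)`. -/
def fpfN (φ : G → G) : ℕ → G → G
  | 0, _ => 1
  | (i + 1), a => a * φ (fpfN φ i a)

theorem fpfN_zero (φ : G → G) (a : G) : fpfN φ 0 a = 1 := rfl

theorem fpfN_succ (φ : G → G) (i : ℕ) (a : G) : fpfN φ (i + 1) a = a * φ (fpfN φ i a) := rfl

theorem fpfN_inv_mul_map (φ : G →* G) (b : G) (i : ℕ) :
    fpfN φ i (b⁻¹ * φ b) = b⁻¹ * φ^[i] b := by
  induction i with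
  | zero => simp [fpfN_zero]
  | succ i ih =>
    rw [fpfN_succ, ih, map_mul, map_inv, Function.iterate_succ_apply']
    group

theorem exists_inv_mul_map [Finite G] {φ : G →* G} (hφ : FixedPointFree φ) (a : G) :
    ∃ b, b⁻¹ * φ b = a := by
  obtain ⟨g, hg⟩ := hφ.commutatorMap_surjective a
  refine ⟨g⁻¹, ?_⟩
  rw [inv_inv, map_inv, ← div_eq_mul_inv]
  exact hg

theorem fpfN_eq_one [Finite G] {φ : G →* G} (hφ : FixedPointFree φ) {r : ℕ}
    (hr : ∀ x, φ^[r] x = x) (a : G) : fpfN φ r a = 1 := by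
  obtain ⟨b, rfl⟩ := exists_inv_mul_map hφ a
  rw [fpfN_inv_mul_map, hr, inv_mul_cancel]

theorem fpfN_eq_prod {V : Type*} [CommGroup V] (ψ : V →* V) (i : ℕ) (v : V) :
    fpfN ψ i v = ∏ j ∈ Finset.range i, ψ^[j] v := by
  induction i with
  | zero => simp [fpfN_zero]
  | succ i ih =>
    rw [fpfN_succ, ih, map_prod, Finset.prod_range_succ', mul_comm]
    simp [Function.iterate_succ_apply']

omit [Group G] in
theorem fpf_injective_of_iterate {φ : G → G} {r : ℕ} (hr0 : 0 < r) (hr : ∀ x, φ^[r] x = x) :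
    Function.Injective φ := by
  obtain ⟨r', rfl⟩ : ∃ r', r = r' + 1 := ⟨r - 1, by omega⟩
  intro x y hxy
  rw [← hr x, ← hr y, Function.iterate_succ_apply, Function.iterate_succ_apply, hxy]

omit [Group G] in
theorem fpf_surjective_of_iterate {φ : G → G} {r : ℕ} (hr0 : 0 < r) (hr : ∀ x, φ^[r] x = x) :
    Function.Surjective φ := by
  obtain ⟨r', rfl⟩ : ∃ r', r = r' + 1 := ⟨r - 1, by omega⟩
  intro x
  exact ⟨φ^[r'] x, by rw [← Function.iterate_succ_apply' φ r' x, hr]⟩

theorem fpfN_injective [Finite G] {φ : G →* G} (hφ : FixedPointFree φ) {r : ℕ} (hrp : r.Prime)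
    (hr : ∀ x, φ^[r] x = x) {i : ℕ} (hi0 : 0 < i) (hir : i < r) :
    Function.Injective (fpfN φ i) := by
  intro a a' h
  obtain ⟨b, rfl⟩ := exists_inv_mul_map hφ a
  obtain ⟨c, rfl⟩ := exists_inv_mul_map hφ a'
  rw [fpfN_inv_mul_map, fpfN_inv_mul_map] at h
  have h1 : φ^[i] (c * b⁻¹) = c * b⁻¹ := by
    rw [iterate_map_mul, iterate_map_inv]
    have h2 : φ^[i] c = c * (b⁻¹ * φ^[i] b) := by rw [h]; group
    rw [h2]
    group
  have h3 : Function.IsPeriodicPt φ (i.gcd r) (c * b⁻¹) :=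
    Function.IsPeriodicPt.gcd h1 (hr _)
  have h4 : i.gcd r = 1 :=
    ((Nat.Prime.coprime_iff_not_dvd hrp).mpr (Nat.not_dvd_of_pos_of_lt hi0 hir)).symm
  rw [h4] at h3
  have h5 : c * b⁻¹ = 1 := hφ _ h3
  have h6 : c = b := by rw [← mul_one c, ← inv_mul_cancel b, ← mul_assoc, h5, one_mul]
  rw [h6]

/-! ### Restriction to invariant subgroups and quotients -/

/-- Restriction of an endomorphism to an invariant subgroup. -/
def restrictHom (φ : G →* G) (L : Subgroup G) (hL : ∀ x ∈ L, φ x ∈ L) : L →* L :=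
  (φ.comp L.subtype).codRestrict L (fun x => hL x x.2)

theorem restrictHom_coe (φ : G →* G) (L : Subgroup G) (hL : ∀ x ∈ L, φ x ∈ L) (x : L) :
    ((restrictHom φ L hL x : L) : G) = φ x := rfl

theorem restrictHom_iterate (φ : G →* G) (L : Subgroup G) (hL : ∀ x ∈ L, φ x ∈ L) (i : ℕ)
    (x : L) : (((restrictHom φ L hL)^[i] x : L) : G) = φ^[i] x := by
  induction i generalizing x with
  | zero => rfl
  | succ i ih =>
    rw [Function.iterate_succ_apply, ih, Function.iterate_succ_apply]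
    rfl

theorem restrictHom_fpf {φ : G →* G} (hφ : FixedPointFree φ) (L : Subgroup G)
    (hL : ∀ x ∈ L, φ x ∈ L) : FixedPointFree (restrictHom φ L hL) :=
  fun x hx => Subtype.ext (hφ x (congrArg Subtype.val hx))

theorem restrictHom_iterate_eq {φ : G →* G} {r : ℕ} (hr : ∀ x, φ^[r] x = x) (L : Subgroup G)
    (hL : ∀ x ∈ L, φ x ∈ L) (x : L) : (restrictHom φ L hL)^[r] x = x :=
  Subtype.ext (by rw [restrictHom_iterate]; exact hr x)

/-- In a finite group, an invariant subgroup of an injective endomorphism is mapped onto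
itself. -/
theorem exists_preimage_mem [Finite G] {φ : G →* G} (hinj : Function.Injective φ)
    (L : Subgroup G) (hL : ∀ x ∈ L, φ x ∈ L) : ∀ y ∈ L, ∃ x ∈ L, φ x = y := by
  have h1 : L.map φ ≤ L := by
    rintro _ ⟨x, hx, rfl⟩
    exact hL x hx
  have h2 : L.map φ = L :=
    Subgroup.eq_of_le_of_card_ge h1 (Subgroup.card_map_of_injective hinj).ge
  intro y hy
  rw [← h2] at hy
  exact hy

/-- The induced endomorphism on the quotient by an invariant normal subgroup. -/
def quotHom (φ : G →* G) (N : Subgroup G) [N.Normal] (hN : ∀ x ∈ N, φ x ∈ N) :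
    G ⧸ N →* G ⧸ N :=
  QuotientGroup.map N N φ (fun x hx => hN x hx)

theorem quotHom_mk (φ : G →* G) (N : Subgroup G) [N.Normal] (hN : ∀ x ∈ N, φ x ∈ N) (x : G) :
    quotHom φ N hN (x : G ⧸ N) = ((φ x : G) : G ⧸ N) := rfl

theorem quotHom_iterate (φ : G →* G) (N : Subgroup G) [N.Normal] (hN : ∀ x ∈ N, φ x ∈ N)
    (i : ℕ) (x : G) : (quotHom φ N hN)^[i] (x : G ⧸ N) = ((φ^[i] x : G) : G ⧸ N) := by
  induction i generalizing x with
  | zero => rfl
  | succ i ih =>
    rw [Function.iterate_succ_apply, quotHom_mk, ih, Function.iterate_succ_apply]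

theorem quotHom_iterate_eq {φ : G →* G} {r : ℕ} (hr : ∀ x, φ^[r] x = x) (N : Subgroup G)
    [N.Normal] (hN : ∀ x ∈ N, φ x ∈ N) (y : G ⧸ N) : (quotHom φ N hN)^[r] y = y := by
  obtain ⟨x, rfl⟩ := QuotientGroup.mk_surjective y
  rw [quotHom_iterate, hr]

theorem quotHom_fpf [Finite G] {φ : G →* G} (hφ : FixedPointFree φ) (N : Subgroup G)
    [N.Normal] (hN : ∀ x ∈ N, φ x ∈ N) : FixedPointFree (quotHom φ N hN) := by
  intro y hy
  obtain ⟨x, rfl⟩ := QuotientGroup.mk_surjective y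
  rw [quotHom_mk] at hy
  have h1 : x⁻¹ * φ x ∈ N := by
    have := (QuotientGroup.eq (s := N)).mp hy.symm
    exact this
  obtain ⟨n, hn⟩ := exists_inv_mul_map (restrictHom_fpf hφ N hN) ⟨x⁻¹ * φ x, h1⟩
  have hn' : (n : G)⁻¹ * φ n = x⁻¹ * φ x := congrArg Subtype.val hn
  have h2 : φ (x * (n : G)⁻¹) = x * (n : G)⁻¹ := by
    rw [map_mul, map_inv]
    have h3 : φ x = x * ((n : G)⁻¹ * φ n) := by rw [hn']; group
    rw [h3]
    group
  have h4 := hφ _ h2
  have h5 : x = n := by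
    rw [← mul_one x, ← inv_mul_cancel (n : G), ← mul_assoc, h4, one_mul]
  rw [h5]
  exact (QuotientGroup.eq_one_iff _).mpr n.2

/-- A fixed-point-free endomorphism of a finite group leaves some Sylow `p`-subgroup
invariant. -/
theorem exists_invariant_sylow_fpf [Finite G] {φ : G →* G} (hφ : FixedPointFree φ) (p : ℕ)
    [Fact p.Prime] : ∃ P : Sylow p G, ∀ x ∈ P, φ x ∈ P := by
  obtain ⟨P₀⟩ : Nonempty (Sylow p G) := inferInstance
  obtain ⟨Q, hQ⟩ := (P₀.isPGroup'.map φ).exists_le_sylow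
  obtain ⟨g, hg⟩ := MulAction.exists_smul_eq G P₀ Q
  obtain ⟨x, hx⟩ := exists_inv_mul_map hφ g⁻¹
  refine ⟨x • P₀, ?_⟩
  intro y hy
  have hy' : y ∈ ((x • P₀ : Sylow p G) : Subgroup G) := hy
  show φ y ∈ ((x • P₀ : Sylow p G) : Subgroup G)
  rw [Sylow.coe_subgroup_smul, mem_conj_smul_iff] at hy' ⊢
  have h1 : φ (x⁻¹ * y * x) ∈ (Q : Subgroup G) := hQ ⟨_, hy', rfl⟩
  rw [← hg, Sylow.coe_subgroup_smul, mem_conj_smul_iff] at h1
  have h2 : φ x = x * g⁻¹ := by rw [← hx]; group
  have h3 : x⁻¹ * φ y * x = g⁻¹ * φ (x⁻¹ * y * x) * g := by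
    rw [map_mul, map_mul, map_inv, h2]
    group
  rw [h3]
  exact h1

end FpfBasic

section FpfTrace

/-- The trace lemma. -/
theorem fpf_trace {V Z : Type*} [CommGroup V] [Finite V] [Group Z] [Finite Z]
    (ρ : Z →* MulAut V) (φV : V →* V) (φZ : Z →* Z)
    (hcompat : ∀ a v, φV (ρ a v) = ρ (φZ a) (φV v))
    {r : ℕ} (hrp : r.Prime)
    (hZr : ∀ a, φZ^[r] a = a) (hVr : ∀ v, φV^[r] v = v)
    (hZf : FixedPointFree φZ) (hVf : FixedPointFree φV)
    (hcop : (Nat.card Z).Coprime (Nat.card V)) (c : Z) (v : V) : ρ c v = v := by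
  classical
  haveI := Fintype.ofFinite Z
  have hψ : ∀ (a : Z) (i : ℕ) (v : V),
      ((ρ a).toMonoidHom.comp φV)^[i] v = ρ (fpfN φZ i a) (φV^[i] v) := by
    intro a i
    induction i with
    | zero =>
      intro v
      simp [fpfN_zero]
    | succ i ih =>
      intro v
      rw [Function.iterate_succ_apply', ih, fpfN_succ]
      simp only [MonoidHom.comp_apply, MulEquiv.toMonoidHom_eq_coe, MonoidHom.coe_coe]
      rw [hcompat, map_mul, MulAut.mul_apply, Function.iterate_succ_apply']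
  have hψr : ∀ (a : Z) (v : V), ((ρ a).toMonoidHom.comp φV)^[r] v = v := by
    intro a v
    rw [hψ, fpfN_eq_one hZf hZr, map_one, MulAut.one_apply, hVr]
  have hψf : ∀ a : Z, FixedPointFree ((ρ a).toMonoidHom.comp φV) := by
    intro a v hv
    obtain ⟨b, rfl⟩ := exists_inv_mul_map hZf a
    have h0 : ρ (b⁻¹ * φZ b) (φV v) = v := hv
    have h1 : ρ (φZ b) (φV v) = ρ b v := by
      rw [map_mul, MulAut.mul_apply, map_inv] at h0
      have h2 := congrArg (ρ b) h0
      rwa [MulAut.apply_inv_self] at h2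
    rw [← hcompat] at h1
    have h2 := hVf _ h1
    exact (ρ b).map_eq_one_iff.mp h2
  have h1 : ∀ (a : Z) (v : V), ∏ i ∈ Finset.range r, ρ (fpfN φZ i a) (φV^[i] v) = 1 := by
    intro a v
    have h2 := fpfN_eq_one (hψf a) (hψr a) v
    rw [fpfN_eq_prod] at h2
    rw [← h2]
    exact Finset.prod_congr rfl (fun i _ => (hψ a i v).symm)
  have h2 : ∏ i ∈ Finset.range r, ∏ a : Z, ρ (fpfN φZ i a) (φV^[i] v) = 1 := by
    rw [Finset.prod_comm]
    exact Finset.prod_eq_one (fun a _ => h1 a v)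
  obtain ⟨r', rfl⟩ : ∃ r', r = r' + 1 := ⟨r - 1, by have := hrp.pos; omega⟩
  rw [Finset.prod_range_succ'] at h2
  have hT : ∀ i ∈ Finset.range r', ∏ a : Z, ρ (fpfN φZ (i + 1) a) (φV^[i + 1] v) =
      ∏ b : Z, ρ b (φV^[i + 1] v) := by
    intro i hi
    have hinj := fpfN_injective hZf hrp hZr (Nat.succ_pos i)
      (Nat.succ_lt_succ (Finset.mem_range.mp hi))
    exact Fintype.prod_bijective (fpfN φZ (i + 1))
      ⟨hinj, Finite.injective_iff_surjective.mp hinj⟩ _ _ (fun a => rfl)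
  rw [Finset.prod_congr rfl hT] at h2
  have h0 : ∏ a : Z, ρ (fpfN φZ 0 a) (φV^[0] v) = v ^ Nat.card Z := by
    simp [fpfN_zero, Nat.card_eq_fintype_card]
  rw [h0] at h2
  have hTc : ∀ w : V, ρ c (∏ b : Z, ρ b w) = ∏ b : Z, ρ b w := by
    intro w
    rw [map_prod]
    exact Fintype.prod_bijective (fun b => c * b) (Group.mulLeft_bijective c) _ _
      (fun b => by rw [map_mul, MulAut.mul_apply])
  have h3 := congrArg (ρ c) h2
  rw [map_mul, map_prod, map_one, map_pow, Finset.prod_congr rfl (fun i _ => hTc _)] at h3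
  have h4 : (ρ c v) ^ Nat.card Z = v ^ Nat.card Z := by
    have := h3.trans h2.symm
    exact mul_left_cancel this
  have h5 : (ρ c v / v) ^ Nat.card Z = 1 := by
    rw [div_pow, h4, div_self']
  have h6 : orderOf (ρ c v / v) ∣ Nat.card Z := orderOf_dvd_of_pow_eq_one h5
  have h7 : orderOf (ρ c v / v) ∣ Nat.card V := orderOf_dvd_natCard _
  have h8 : orderOf (ρ c v / v) = 1 := Nat.eq_one_of_dvd_coprimes hcop h6 h7
  exact div_eq_one.mp (orderOf_eq_one_iff.mp h8)

end FpfTrace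

section FpfCentralizes

variable {G : Type*} [Group G]

open scoped IsMulCommutative in
/-- If `φ` is a fixed-point-free endomorphism of prime order `r` of the finite group `G`, then
every `φ`-invariant subgroup `P` centralises every `φ`-invariant abelian normal subgroup `V`
of order prime to that of `P`. -/
theorem fpf_centralizes [Finite G] (φ : G →* G) {r : ℕ} (hrp : r.Prime)
    (hφr : ∀ x, φ^[r] x = x) (hφ : FixedPointFree φ)
    (V P : Subgroup G) [V.Normal] (hVc : ∀ a ∈ V, ∀ b ∈ V, a * b = b * a)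
    (hVφ : ∀ x ∈ V, φ x ∈ V) (hPφ : ∀ x ∈ P, φ x ∈ P)
    (hcop : (Nat.card P).Coprime (Nat.card V)) : P ≤ Subgroup.centralizer (V : Set G) := by
  haveI : IsMulCommutative V := ⟨⟨fun a b => Subtype.ext (hVc a a.2 b b.2)⟩⟩
  obtain ⟨ρ, hρ⟩ : ∃ ρ : P →* MulAut V, ∀ (g : P) (v : V), ((ρ g v : V) : G) = g * v * (g : G)⁻¹ :=
    ⟨(MulAut.conjNormal).comp P.subtype, fun g v => MulAut.conjNormal_apply (g : G) v⟩
  have key := fpf_trace ρ (restrictHom φ V hVφ) (restrictHom φ P hPφ) ?_ hrp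
    (restrictHom_iterate_eq hφr P hPφ) (restrictHom_iterate_eq hφr V hVφ)
    (restrictHom_fpf hφ P hPφ) (restrictHom_fpf hφ V hVφ) hcop
  · intro c hc
    rw [Subgroup.mem_centralizer_iff]
    intro v hv
    have h1 := congrArg Subtype.val (key ⟨c, hc⟩ ⟨v, hv⟩)
    rw [hρ] at h1
    have h2 : c * v * c⁻¹ = v := h1
    calc v * c = c * v * c⁻¹ * c := by rw [h2]
      _ = c * v := by group
  · intro a v
    apply Subtype.ext
    rw [restrictHom_coe, hρ, hρ, restrictHom_coe, restrictHom_coe, map_mul, map_mul, map_inv]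

end FpfCentralizes

end Cfsg.Agent.Lib.Helper1
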