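import Mathlib
import Cfsg.Agent.Lib.Helper1.FpfBasic
import Cfsg.Agent.Lib.Helper1.ThompsonNPC
import Cfsg.Agent.Lib.Helper21.PGroup

set_option autoImplicit false
set_option linter.style.haveILetI false

/-!
Thompson's theorem: a finite group with a fixed-point-free automorphism of prime order is
nilpotent.
-/

namespace Cfsg.Agent.Lib.Helper1

open Cfsg MonoidHom

universe u

/-- In a finite nilpotent group, elements of order prime to `p` centralise `p`-subgroups. -/
theorem frobCond_of_isNilpotent {L : Type u} [Group L] [Finite L] [hL : Group.IsNilpotent L]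
    (p : ℕ) [Fact p.Prime] : FrobCond p L := by
  have hp : p.Prime := Fact.out
  have hsyl : ∀ (q : ℕ) (_ : Fact q.Prime) (S : Sylow q L), (S : Subgroup L).Normal :=
    (Group.isNilpotent_of_finite_tfae.out 0 3).mp hL
  intro Q hQ g hg hcop
  obtain ⟨P, hQP⟩ := hQ.exists_le_sylow
  haveI hPn : (P : Subgroup L).Normal := hsyl p inferInstance P
  obtain ⟨C, hCdef⟩ : ∃ C : Subgroup L, C = Subgroup.centralizer ((P : Subgroup L) : Set L) :=
    ⟨_, rfl⟩
  haveI hCn : C.Normal := hCdef ▸ inferInstance
  have hgC : g ∈ C := by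
    apply mem_of_pow_mem_of_coprime (Subgroup.pow_index_mem C g)
    apply Nat.coprime_of_dvd
    intro k hk hkg hkC
    have hkp : k ≠ p := by
      rintro rfl
      exact hk.one_lt.ne' (Nat.Coprime.eq_one_of_dvd hcop.symm hkg)
    haveI : Fact k.Prime := ⟨hk⟩
    obtain ⟨S⟩ : Nonempty (Sylow k L) := inferInstance
    haveI hSn : (S : Subgroup L).Normal := hsyl k inferInstance S
    have hdis : Disjoint (S : Subgroup L) (P : Subgroup L) :=
      IsPGroup.disjoint_of_ne k p hkp _ _ S.isPGroup' P.isPGroup'
    have hSC : (S : Subgroup L) ≤ C := by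
      intro s hs
      rw [hCdef, Subgroup.mem_centralizer_iff]
      intro x hx
      exact (Subgroup.commute_of_normal_of_disjoint _ _ hSn hPn hdis s x hs hx).eq.symm
    exact S.not_dvd_index (hkC.trans (Subgroup.index_dvd_of_le hSC))
  rw [hCdef] at hgC
  exact Subgroup.centralizer_le (SetLike.coe_subset_coe.mpr hQP) hgC

theorem hasNormalPComplement_of_isNilpotent {L : Type u} [Group L] [Finite L]
    [Group.IsNilpotent L] (p : ℕ) [Fact p.Prime] : HasNormalPComplement p L :=
  hasNormalPComplement_iff_frobCond.mpr (frobCond_of_isNilpotent p)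

theorem inf_centralizer_ne_bot {G : Type u} [Group G] [Finite G] {p : ℕ} [Fact p.Prime]
    {P : Subgroup G} (hPp : IsPGroup p P) (hP1 : P ≠ ⊥) :
    P ⊓ Subgroup.centralizer (P : Set G) ≠ ⊥ := by
  haveI : Nontrivial P := (Subgroup.nontrivial_iff_ne_bot _).mpr hP1
  have h1 := hPp.bot_lt_center
  obtain ⟨z, hz, hz1⟩ := SetLike.exists_of_lt h1
  intro h
  apply hz1
  have h2 : (z : G) ∈ P ⊓ Subgroup.centralizer (P : Set G) := by
    refine Subgroup.mem_inf.mpr ⟨z.2, ?_⟩
    rw [Subgroup.mem_centralizer_iff]
    intro y hy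
    have := Subgroup.mem_center_iff.mp hz ⟨y, hy⟩
    exact congrArg Subtype.val this
  rw [h, Subgroup.mem_bot] at h2
  rw [Subgroup.mem_bot]
  exact Subtype.ext h2

set_option maxHeartbeats 1600000 in
theorem fpf_nilpotent_aux {r : ℕ} (hrp : r.Prime) :
    ∀ (n : ℕ) (G : Type u) [Group G] [Finite G] (φ : G →* G), Nat.card G ≤ n →
      (∀ x, φ^[r] x = x) → FixedPointFree φ → Group.IsNilpotent G := by
  intro n
  induction n using Nat.strong_induction_on with
  | _ n IH =>
    intro G _ _ φ hn hφr hφ
    have hinj : Function.Injective φ := fpf_injective_of_iterate hrp.pos hφr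
    have hsurj : Function.Surjective φ := fpf_surjective_of_iterate hrp.pos hφr
    have hord : ∀ x, orderOf (φ x) = orderOf x := fun x => orderOf_injective φ hinj x
    have ihL : ∀ L : Subgroup G, (∀ x ∈ L, φ x ∈ L) → L ≠ ⊤ → Group.IsNilpotent L := by
      intro L hL hLtop
      have hlt : Nat.card L < Nat.card G := by
        apply lt_of_le_of_ne (Subgroup.card_le_card_group L)
        intro h
        exact hLtop ((Subgroup.card_eq_iff_eq_top L).mp h)
      exact IH (Nat.card L) (by omega) L (restrictHom φ L hL) le_rfl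
        (restrictHom_iterate_eq hφr L hL) (restrictHom_fpf hφ L hL)
    have ihQ : ∀ (N : Subgroup G) [N.Normal], (∀ x ∈ N, φ x ∈ N) → N ≠ ⊥ →
        Group.IsNilpotent (G ⧸ N) := by
      intro N _ hN hN1
      have h1 : Nat.card G = Nat.card (G ⧸ N) * Nat.card N :=
        Subgroup.card_eq_card_quotient_mul_card_subgroup N
      have h2 : 1 < Nat.card N := by
        haveI : Nontrivial N := (Subgroup.nontrivial_iff_ne_bot _).mpr hN1
        exact Finite.one_lt_card
      have h3 : 0 < Nat.card (G ⧸ N) := Nat.card_pos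
      exact IH (Nat.card (G ⧸ N)) (by nlinarith) (G ⧸ N) (quotHom φ N hN) le_rfl
        (quotHom_iterate_eq hφr N hN) (quotHom_fpf hφ N hN)
    have hcenter : Subgroup.center G ≠ ⊥ → Group.IsNilpotent G := by
      intro h
      have h1 := ihQ (Subgroup.center G) (by
        intro z hz
        rw [Subgroup.mem_center_iff] at hz ⊢
        intro g
        obtain ⟨g', rfl⟩ := hsurj g
        rw [← map_mul, ← map_mul, hz g']) h
      exact Group.of_quotient_center_nilpotent h1
    -- the solvable case
    have hmain : Group.IsSolvable G → Group.IsNilpotent G := by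
      intro hsolv
      by_cases htriv : Subsingleton G
      · infer_instance
      rw [not_subsingleton_iff_nontrivial] at htriv
      obtain ⟨A, hA1, hAn, hAφ, hAc⟩ : ∃ A : Subgroup G, A ≠ ⊥ ∧ A.Normal ∧
          (∀ x ∈ A, φ x ∈ A) ∧ ∀ a ∈ A, ∀ b ∈ A, a * b = b * a := by
        classical
        have hex := hsolv.solvable
        obtain ⟨m, hm, hmin⟩ : ∃ m, derivedSeries G m = ⊥ ∧ ∀ j < m, derivedSeries G j ≠ ⊥ :=
          ⟨Nat.find hex, Nat.find_spec hex, fun j hj => Nat.find_min hex hj⟩
        have hm0 : m ≠ 0 := by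
          rintro rfl
          rw [derivedSeries_zero] at hm
          exact top_ne_bot hm
        obtain ⟨m', rfl⟩ : ∃ m', m = m' + 1 := ⟨m - 1, by omega⟩
        refine ⟨derivedSeries G m', hmin m' (Nat.lt_succ_self m'), derivedSeries_normal G m',
          ?_, ?_⟩
        · intro x hx
          exact map_derivedSeries_le_derivedSeries φ m' ⟨x, hx, rfl⟩
        · rw [derivedSeries_succ, Subgroup.commutator_eq_bot_iff_le_centralizer] at hm
          intro a ha b hb
          exact (Subgroup.mem_centralizer_iff.mp (hm hb)) a ha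
      haveI := hAn
      obtain ⟨q, hqdef⟩ : ∃ q : ℕ, q = (Nat.card A).minFac := ⟨_, rfl⟩
      have hAcard : Nat.card A ≠ 1 := fun h => hA1 (Subgroup.eq_bot_of_card_eq A h)
      have hq : q.Prime := hqdef ▸ Nat.minFac_prime hAcard
      haveI : Fact q.Prime := ⟨hq⟩
      have hqdvd : q ∣ Nat.card A := hqdef ▸ Nat.minFac_dvd _
      obtain ⟨V, hVmem⟩ := exists_torsion_subgroup A hAc q
      have hVA : V ≤ A := fun v hv => ((hVmem v).mp hv).1
      have hV1 : V ≠ ⊥ := by
        obtain ⟨x, hx⟩ := exists_prime_orderOf_dvd_card' (G := A) q hqdvd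
        intro h
        have hxV : (x : G) ∈ V := by
          rw [hVmem]
          refine ⟨x.2, ?_⟩
          rw [← Subgroup.coe_pow, ← hx, pow_orderOf_eq_one]
          rfl
        rw [h, Subgroup.mem_bot] at hxV
        have hx1 : x = 1 := Subtype.ext hxV
        rw [hx1, orderOf_one] at hx
        exact hq.one_lt.ne hx
      haveI hVn : V.Normal := by
        constructor
        intro v hv g
        rw [hVmem] at hv ⊢
        refine ⟨hAn.conj_mem v hv.1 g, ?_⟩
        rw [conj_pow, hv.2, mul_one, mul_inv_cancel]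
      have hVφ : ∀ x ∈ V, φ x ∈ V := by
        intro x hx
        rw [hVmem] at hx ⊢
        refine ⟨hAφ x hx.1, ?_⟩
        rw [← map_pow, hx.2, map_one]
      have hVc : ∀ a ∈ V, ∀ b ∈ V, a * b = b * a := fun a ha b hb => hAc a (hVA ha) b (hVA hb)
      have hVq : IsPGroup q V := by
        intro v
        refine ⟨1, ?_⟩
        apply Subtype.ext
        rw [pow_one, Subgroup.coe_pow]
        exact ((hVmem v).mp v.2).2
      obtain ⟨S, hSφ⟩ := exists_invariant_sylow_fpf hφ q
      have hVS : V ≤ (S : Subgroup G) := normal_pgroup_le_sylow hVn hVq S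
      haveI hNn : (V.subgroupOf (S : Subgroup G)).Normal := inferInstance
      have hN1 : V.subgroupOf (S : Subgroup G) ≠ ⊥ := by
        intro h
        apply hV1
        rw [eq_bot_iff]
        intro v hv
        have : (⟨v, hVS hv⟩ : (S : Subgroup G)) ∈ V.subgroupOf (S : Subgroup G) := hv
        rw [h, Subgroup.mem_bot] at this
        exact Subgroup.mem_bot.mpr (congrArg Subtype.val this)
      obtain ⟨z, hzN, hzc, hz1⟩ :=
        Cfsg.Agent.Lib.Helper21.exists_mem_center_of_normal S.isPGroup' _ hN1
      have hwV : (z : G) ∈ V := hzN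
      have hwS : ∀ s ∈ (S : Subgroup G), s * (z : G) = z * s := by
        intro s hs
        have := Subgroup.mem_center_iff.mp hzc ⟨s, hs⟩
        exact congrArg Subtype.val this
      have hw1 : (z : G) ≠ 1 := fun h => hz1 (Subtype.ext h)
      apply hcenter
      intro hbot
      apply hw1
      rw [← Subgroup.mem_bot, ← hbot]
      obtain ⟨C, hCdef⟩ : ∃ C : Subgroup G, C = Subgroup.centralizer ({(z : G)} : Set G) :=
        ⟨_, rfl⟩
      have hCmem : ∀ g, g ∈ C ↔ (z : G) * g = g * z := by
        intro g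
        rw [hCdef, Subgroup.mem_centralizer_iff]
        constructor
        · intro h
          exact h _ rfl
        · rintro h _ rfl
          exact h
      have hCtop : C = ⊤ := by
        rw [← Subgroup.index_eq_one]
        by_contra hne
        obtain ⟨p, hp, hpdvd⟩ := Nat.exists_prime_and_dvd hne
        haveI : Fact p.Prime := ⟨hp⟩
        by_cases hpq : p = q
        · subst hpq
          have hSC : (S : Subgroup G) ≤ C := by
            intro s hs
            rw [hCmem]
            exact (hwS s hs).symm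
          exact S.not_dvd_index (hpdvd.trans (Subgroup.index_dvd_of_le hSC))
        · obtain ⟨P, hPφ⟩ := exists_invariant_sylow_fpf hφ p
          have hcop : (Nat.card (P : Subgroup G)).Coprime (Nat.card V) := by
            obtain ⟨i, hi⟩ := IsPGroup.iff_card.mp P.isPGroup'
            obtain ⟨j, hj⟩ := IsPGroup.iff_card.mp hVq
            rw [hi, hj]
            exact Nat.Coprime.pow i j ((Nat.coprime_primes hp hq).mpr hpq)
          have hPV := fpf_centralizes φ hrp hφr hφ V (P : Subgroup G) hVc hVφ hPφ hcop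
          have hPC : (P : Subgroup G) ≤ C := by
            intro s hs
            rw [hCmem]
            exact (Subgroup.mem_centralizer_iff.mp (hPV hs)) _ hwV
          exact P.not_dvd_index (hpdvd.trans (Subgroup.index_dvd_of_le hPC))
      rw [Subgroup.mem_center_iff]
      intro g
      have hg : g ∈ C := hCtop ▸ Subgroup.mem_top g
      exact ((hCmem g).mp hg).symm
    -- reduction to the solvable case
    by_cases h2 : ∀ p : ℕ, p.Prime → p ∣ Nat.card G → p = 2
    · haveI : Fact (Nat.Prime 2) := ⟨Nat.prime_two⟩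
      have hcard := Nat.eq_prime_pow_of_unique_prime_dvd (n := Nat.card G) (p := 2)
        Nat.card_pos.ne' (fun {d} hd hdvd => h2 d hd hdvd)
      exact (IsPGroup.of_card hcard).isNilpotent
    push Not at h2
    obtain ⟨p, hp, hpdvd, hp2⟩ := h2
    haveI : Fact p.Prime := ⟨hp⟩
    obtain ⟨P, hPφ⟩ := exists_invariant_sylow_fpf hφ p
    have hP1 : (P : Subgroup G) ≠ ⊥ := P.ne_bot_of_dvd_card hpdvd
    have hPmap : (P : Subgroup G) = (P : Subgroup G).map φ := by
      apply le_antisymm
      · intro y hy
        obtain ⟨x, hx, rfl⟩ := exists_preimage_mem hinj _ hPφ y hy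
        exact ⟨x, hx, rfl⟩
      · rintro _ ⟨x, hx, rfl⟩
        exact hPφ x hx
    obtain ⟨J, hJdef⟩ : ∃ J : Subgroup G, J = thompsonSubgroupOf p (P : Subgroup G) := ⟨_, rfl⟩
    have hJmap : J = J.map φ := by
      rw [hJdef]
      exact thompsonSubgroupOf_eq_of_eq_map p φ hinj _ _ hPmap
    have hJφ : ∀ x ∈ J, φ x ∈ J := by
      intro x hx
      rw [hJmap]
      exact ⟨x, hx, rfl⟩
    have hJp : IsPGroup p J :=
      hJdef ▸ P.isPGroup'.to_le (Cfsg.Agent.Lib.Helper27.thompsonSubgroupOf_le p _)
    have hJ1 : J ≠ ⊥ := hJdef ▸ thompsonSubgroupOf_ne_bot P.isPGroup' hP1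
    obtain ⟨Zp, hZpdef⟩ : ∃ Zp : Subgroup G,
        Zp = (P : Subgroup G) ⊓ Subgroup.centralizer ((P : Subgroup G) : Set G) := ⟨_, rfl⟩
    have hZpφ : ∀ x ∈ Zp, φ x ∈ Zp := by
      intro x hx
      rw [hZpdef] at hx ⊢
      obtain ⟨hx1, hx2⟩ := Subgroup.mem_inf.mp hx
      refine Subgroup.mem_inf.mpr ⟨hPφ x hx1, ?_⟩
      rw [Subgroup.mem_centralizer_iff] at hx2 ⊢
      intro y hy
      obtain ⟨y', hy', rfl⟩ := exists_preimage_mem hinj _ hPφ y hy
      rw [← map_mul, ← map_mul, hx2 y' hy']
    have hZp1 : Zp ≠ ⊥ := hZpdef ▸ inf_centralizer_ne_bot P.isPGroup' hP1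
    have hsolvable_of : ∀ (M : Subgroup G) [M.Normal], Group.IsSolvable M →
        Group.IsSolvable (G ⧸ M) → Group.IsSolvable G := by
      intro M _ h1 h2
      exact Group.isSolvable_of_ker_le_range M.subtype (QuotientGroup.mk' M)
        (by rw [QuotientGroup.ker_mk', Subgroup.range_subtype])
    by_cases hNJ : Subgroup.normalizer (J : Set G) = ⊤
    · haveI hJn : J.Normal := Subgroup.normalizer_eq_top_iff.mp hNJ
      apply hmain
      haveI h1 : Group.IsNilpotent J := hJp.isNilpotent
      haveI h2 : Group.IsNilpotent (G ⧸ J) := ihQ J hJφ hJ1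
      exact hsolvable_of J (@IsNilpotent.to_isSolvable _ _ h1) (@IsNilpotent.to_isSolvable _ _ h2)
    by_cases hCZ : Subgroup.centralizer (Zp : Set G) = ⊤
    · apply hcenter
      intro hbot
      apply hZp1
      rw [eq_bot_iff, ← hbot]
      intro z hz
      rw [Subgroup.mem_center_iff]
      intro g
      have hg : g ∈ Subgroup.centralizer (Zp : Set G) := hCZ ▸ Subgroup.mem_top g
      exact ((Subgroup.mem_centralizer_iff.mp hg) z hz).symm
    have hNJφ : ∀ x ∈ Subgroup.normalizer (J : Set G), φ x ∈ Subgroup.normalizer (J : Set G) := by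
      intro g hg
      apply mem_normalizer_of_conj_mem
      intro x hx
      obtain ⟨x', hx', rfl⟩ := exists_preimage_mem hinj _ hJφ x hx
      rw [← map_mul, ← map_inv, ← map_mul]
      exact hJφ _ ((Subgroup.mem_normalizer_iff.mp hg x').mp hx')
    have hCZφ : ∀ x ∈ Subgroup.centralizer (Zp : Set G),
        φ x ∈ Subgroup.centralizer (Zp : Set G) := by
      intro g hg
      rw [Subgroup.mem_centralizer_iff] at hg ⊢
      intro x hx
      obtain ⟨x', hx', rfl⟩ := exists_preimage_mem hinj _ hZpφ x hx
      rw [← map_mul, ← map_mul, hg x' hx']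
    haveI hNJnil : Group.IsNilpotent (Subgroup.normalizer (J : Set G)) := ihL _ hNJφ hNJ
    haveI hCZnil : Group.IsNilpotent (Subgroup.centralizer (Zp : Set G)) := ihL _ hCZφ hCZ
    have hnpc : HasNormalPComplement p G := by
      apply thompson_normal_p_complement hp2 P
      · rw [← hJdef]
        exact hasNormalPComplement_of_isNilpotent p
      · show HasNormalPComplement p ↥(Subgroup.centralizer ((((P : Subgroup G) ⊓
          Subgroup.centralizer ((P : Subgroup G) : Set G) : Subgroup G)) : Set G))
        rw [← hZpdef]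
        exact hasNormalPComplement_of_isNilpotent p
    rw [hasNormalPComplement_iff_frobCond, frobCond_iff_npc] at hnpc
    obtain ⟨K, hKn, hKc, k, hKi⟩ := hnpc
    haveI := hKn
    have hKφ : ∀ x ∈ K, φ x ∈ K := by
      intro x hx
      apply mem_of_pow_mem_of_coprime (Subgroup.pow_index_mem K (φ x))
      rw [hKi, hord]
      apply Nat.Coprime.pow_right
      exact Nat.Coprime.coprime_dvd_left (Subgroup.orderOf_dvd_natCard K hx) hKc
    have hKtop : K ≠ ⊤ := by
      intro h
      rw [h, Subgroup.card_top] at hKc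
      exact hp.one_lt.ne' (Nat.Coprime.eq_one_of_dvd hKc.symm hpdvd)
    apply hmain
    haveI h1 : Group.IsNilpotent K := ihL K hKφ hKtop
    haveI h2 : Group.IsNilpotent (G ⧸ K) := by
      have hcard : Nat.card (G ⧸ K) = p ^ k := hKi
      exact (IsPGroup.of_card hcard).isNilpotent
    exact hsolvable_of K (@IsNilpotent.to_isSolvable _ _ h1) (@IsNilpotent.to_isSolvable _ _ h2)

end Cfsg.Agent.Lib.Helper1
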