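import Mathlib
import Cfsg.Agent.Lib.Helper1.Hall
import Cfsg.Agent.Lib.Helper1.Cores

set_option autoImplicit false
set_option linter.style.haveILetI false
open Pointwise

namespace Cfsg.Agent.Lib.Helper1

universe u

section Hall2

variable {G : Type u} [Group G]

/-- A normal Hall subgroup `M` of `L` has a complement in `L` (Schur-Zassenhaus, relative). -/
theorem exists_complement_of_normal_hall [Finite G] (M L : Subgroup G) [M.Normal] (hML : M ≤ L)
    (m : ℕ) (hL : Nat.card L = Nat.card M * m) (hMm : (Nat.card M).Coprime m) :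
    ∃ H : Subgroup G, H ≤ L ∧ Nat.card H = m ∧ L ≤ M ⊔ H := by
  have hMpos : 0 < Nat.card M := Nat.card_pos
  have hc1 : Nat.card (M.subgroupOf L) = Nat.card M :=
    Nat.card_congr (Subgroup.subgroupOfEquivOfLe hML).toEquiv
  have hc2 : (M.subgroupOf L).index = m := by
    have := Subgroup.card_mul_index (M.subgroupOf L)
    rw [hc1, hL] at this
    exact Nat.eq_of_mul_eq_mul_left hMpos this
  obtain ⟨H', hH'⟩ := Subgroup.exists_right_complement'_of_coprime
    (N := M.subgroupOf L) (by rw [hc1, hc2]; exact hMm)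
  have hc3 : Nat.card H' = m := by rw [← hH'.symm.index_eq_card, hc2]
  refine ⟨H'.map L.subtype, Subgroup.map_subtype_le H', ?_, ?_⟩
  · rw [Subgroup.card_map_of_injective L.subtype_injective, hc3]
  · intro x hx
    obtain ⟨a, ha, h, hh, hxe⟩ := IsComplement'.exists_mul hH' (⟨x, hx⟩ : L)
    have hxe' : x = (a : G) * (h : G) := congrArg Subtype.val hxe
    rw [hxe']
    exact Subgroup.mul_mem _ (Subgroup.mem_sup_left (Subgroup.mem_subgroupOf.mp ha))
      (Subgroup.mem_sup_right ⟨h, hh, rfl⟩)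

/-- A nontrivial solvable normal subgroup contains a nontrivial normal `q`-subgroup. -/
theorem exists_normal_pgroup_le [Finite G] : ∀ (n : ℕ) (K : Subgroup G), Nat.card K ≤ n →
    K.Normal → K ≠ ⊥ → Group.IsSolvable K →
    ∃ q : ℕ, q.Prime ∧ ∃ Q : Subgroup G, Q ≤ K ∧ Q.Normal ∧ Q ≠ ⊥ ∧ IsPGroup q Q := by
  intro n
  induction n with
  | zero =>
    intro K hK
    have := Nat.card_pos (α := K)
    omega
  | succ n ih =>
    intro K hK hKn hKne hKs
    haveI := hKn
    haveI := hKs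
    by_cases hcomm : ⁅K, K⁆ = ⊥
    · have hab : ∀ a ∈ K, ∀ b ∈ K, a * b = b * a := by
        intro a ha b hb
        have h0 := Subgroup.commutator_eq_bot_iff_le_centralizer.mp hcomm
        exact h0 hb a ha
      obtain ⟨q, hq, hqdvd⟩ := Nat.exists_prime_and_dvd (K.one_lt_card_iff_ne_bot.mpr hKne).ne'
      haveI : Fact q.Prime := ⟨hq⟩
      obtain ⟨T, hTn, hTK, hTne, hTq⟩ := exists_normal_exponent_subgroup K hab q hqdvd
      refine ⟨q, hq, T, hTK, hTn, hTne, ?_⟩
      intro x
      exact ⟨1, by rw [pow_one]; exact Subtype.ext (hTq x x.2)⟩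
    · have hlt : ⁅K, K⁆ < K := commutator_lt_of_solvable hKne
      have hcard := card_lt_of_lt hlt
      obtain ⟨q, hq, Q, hQK, hQn, hQne, hQq⟩ := ih ⁅K, K⁆ (by omega) inferInstance hcomm
        (isSolvable_of_le hlt.le)
      exact ⟨q, hq, Q, hQK.trans hlt.le, hQn, hQne, hQq⟩

theorem conj_smul_eq_of_mem_centralizer {k : G} {Q : Subgroup G}
    (hk : k ∈ Subgroup.centralizer (Q : Set G)) : MulAut.conj k • Q = Q :=
  conj_smul_eq_of_mem_normalizer (Subgroup.centralizer_le_normalizer _ hk)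

theorem normal_of_forall_conj_smul_eq {Q : Subgroup G} (h : ∀ g : G, MulAut.conj g • Q = Q) :
    Q.Normal := by
  constructor
  intro x hx g
  have h1 := conj_mem_conj_smul g x Q hx
  rwa [h g] at h1

/-- Hall-Higman 1.2.3: in a finite solvable group with trivial `p'`-core, the centralizer of
the `p`-core lies in the `p`-core. -/
theorem centralizer_pCore_le [Finite G] [Group.IsSolvable G] (p : ℕ) [Fact p.Prime]
    (h : Cfsg.pPrimeCore p G = ⊥) :
    Subgroup.centralizer (Cfsg.pCore p G : Set G) ≤ Cfsg.pCore p G := by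
  obtain ⟨P, hPdef⟩ : ∃ P : Subgroup G, P = Cfsg.pCore p G := ⟨_, rfl⟩
  rw [← hPdef]
  haveI hPn : P.Normal := hPdef ▸ pCore_normal p
  have hPp : IsPGroup p P := hPdef ▸ pCore_isPGroup p
  obtain ⟨C, hCdef⟩ : ∃ C : Subgroup G, C = Subgroup.centralizer (P : Set G) := ⟨_, rfl⟩
  rw [← hCdef]
  haveI hCn : C.Normal := hCdef ▸ inferInstance
  obtain ⟨Z, hZdef⟩ : ∃ Z : Subgroup G, Z = P ⊓ C := ⟨_, rfl⟩
  haveI hZn : Z.Normal := hZdef ▸ inferInstance
  have hZP : Z ≤ P := hZdef ▸ inf_le_left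
  have hZC : Z ≤ C := hZdef ▸ inf_le_right
  have hZp : IsPGroup p Z := hPp.to_le hZP
  by_contra hCP
  obtain ⟨π, hπdef⟩ : ∃ π : G →* G ⧸ Z, π = QuotientGroup.mk' Z := ⟨_, rfl⟩
  have hπ : Function.Surjective π := hπdef ▸ QuotientGroup.mk'_surjective Z
  have hker : π.ker = Z := hπdef ▸ QuotientGroup.ker_mk' Z
  have hcomap : ∀ Hbar : Subgroup (G ⧸ Z),
      Nat.card (Hbar.comap π) = Nat.card Z * Nat.card Hbar := hπdef ▸ card_comap_mk' Z
  haveI hCbn : (C.map π).Normal := hCn.map π hπ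
  have hCbne : C.map π ≠ ⊥ := by
    intro hbot
    apply hCP
    have h1 : C ≤ π.ker := (Subgroup.map_eq_bot_iff C).mp hbot
    rw [hker] at h1
    exact h1.trans hZP
  obtain ⟨q, hq, Qbar, hQC, hQn, hQne, hQq⟩ :=
    exists_normal_pgroup_le _ (C.map π) le_rfl hCbn hCbne inferInstance
  haveI : Fact q.Prime := ⟨hq⟩
  obtain ⟨M, hMdef⟩ : ∃ M : Subgroup G, M = Qbar.comap π := ⟨_, rfl⟩
  haveI hMn : M.Normal := hMdef ▸ hQn.comap π
  have hZM : Z ≤ M := hMdef ▸ hker.symm.le.trans (MonoidHom.ker_le_comap π Qbar)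
  have hMC : M ≤ C := by
    rw [hMdef]
    calc Qbar.comap π ≤ (C.map π).comap π := Subgroup.comap_mono hQC
      _ = C ⊔ π.ker := Subgroup.comap_map_eq π C
      _ = C := by rw [hker, sup_eq_left]; exact hZC
  have hMmap : M.map π = Qbar := by
    rw [hMdef]; exact Subgroup.map_comap_eq_self_of_surjective hπ Qbar
  have hMcard : Nat.card M = Nat.card Z * Nat.card Qbar := by rw [hMdef]; exact hcomap Qbar
  obtain ⟨a, ha⟩ := IsPGroup.iff_card.mp hZp
  obtain ⟨b, hb⟩ := IsPGroup.iff_card.mp hQq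
  -- it suffices to show `M ≤ Z`
  have hsuff : ¬ M ≤ Z := by
    intro hMZ
    apply hQne
    rw [← hMmap, Subgroup.map_eq_bot_iff, hker]
    exact hMZ
  by_cases hqp : q = p
  · apply hsuff
    have hMp : IsPGroup p M := by
      apply IsPGroup.of_card (n := a + b)
      rw [hMcard, ha, hb, hqp, pow_add]
    have hMP : M ≤ P := hPdef ▸ le_pCore p hMn hMp
    rw [hZdef]
    exact le_inf hMP hMC
  · have hcop : (Nat.card Z).Coprime (Nat.card Qbar) := by
      rw [ha, hb]
      exact Nat.Coprime.pow a b ((Nat.coprime_primes Fact.out hq).mpr (fun h => hqp h.symm))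
    obtain ⟨Q, hQM, hQcard, hMQ⟩ := exists_complement_of_normal_hall Z M hZM (Nat.card Qbar)
      hMcard hcop
    have hPQ : P ≤ Subgroup.centralizer (Q : Set G) := by
      rw [Subgroup.le_centralizer_iff, ← hCdef]
      exact hQM.trans hMC
    have hconj : ∀ g : G, MulAut.conj g • Q = Q := by
      intro g
      have hB : MulAut.conj g • Q ≤ Z ⊔ Q := by
        refine le_trans ?_ hMQ
        intro x hx
        rw [mem_conj_smul_iff] at hx
        have h1 := hMn.conj_mem _ (hQM hx) g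
        have h2 : g * (g⁻¹ * x * g) * g⁻¹ = x := by group
        rwa [h2] at h1
      obtain ⟨k, hk, hkQ⟩ := sz_conj_rel Q Z
        (by rw [Subgroup.normalizer_eq_top]; exact le_top)
        (by rw [hQcard]; exact hcop.symm) (Or.inr inferInstance) (MulAut.conj g • Q) hB
        (card_conj_smul g Q)
      rw [← hkQ]
      exact conj_smul_eq_of_mem_centralizer (hPQ (hZP hk))
    have hQnorm : Q.Normal := normal_of_forall_conj_smul_eq hconj
    have hQle : Q ≤ Cfsg.pPrimeCore p G := by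
      apply le_pPrimeCore p hQnorm
      rw [hQcard, hb]
      exact Nat.Coprime.pow_left b ((Nat.coprime_primes hq Fact.out).mpr hqp)
    rw [h] at hQle
    apply hsuff
    calc M ≤ Z ⊔ Q := hMQ
      _ ≤ Z ⊔ ⊥ := sup_le_sup_left hQle Z
      _ = Z := sup_bot_eq Z

end Hall2

end Cfsg.Agent.Lib.Helper1
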