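import Mathlib
import Cfsg.Agent.Lib.Helper1.FpfMain

set_option autoImplicit false
set_option linter.style.haveILetI false

/-!
Splitting endomorphisms of prime order `r` (`a * φ a * ... * φ^(r-1) a = 1` for all `a`,
`φ^r = 1`): twisting by inner automorphisms, restriction to invariant subgroups and quotients,
the trace lemma for splitting endomorphisms, and a norm computation for two commuting
automorphisms of a commutative group.
-/

namespace Cfsg.Agent.Lib.Helper1

open MonoidHom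

section KegelBasic

variable {G : Type*} [Group G]

/-- `φ` followed by conjugation by `c`. -/
def twistHom (φ : G →* G) (c : G) : G →* G := (MulAut.conj c).toMonoidHom.comp φ

theorem twistHom_apply (φ : G →* G) (c x : G) : twistHom φ c x = c * φ x * c⁻¹ := rfl

theorem twistHom_iterate (φ : G →* G) (c : G) (n : ℕ) (x : G) :
    (twistHom φ c)^[n] x = fpfN φ n c * φ^[n] x * (fpfN φ n c)⁻¹ := by
  induction n with
  | zero => simp [fpfN_zero]
  | succ n ih =>
    rw [Function.iterate_succ_apply', ih, twistHom_apply, fpfN_succ, Function.iterate_succ_apply']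
    simp only [map_mul, map_inv]
    group

theorem fpfN_twistHom (φ : G →* G) (c : G) (n : ℕ) (a : G) :
    fpfN (twistHom φ c) n a * fpfN φ n c = fpfN φ n (a * c) := by
  induction n with
  | zero => simp [fpfN_zero]
  | succ n ih =>
    rw [fpfN_succ, fpfN_succ, fpfN_succ, ← ih, twistHom_apply, map_mul]
    group

/-- `φ` is a splitting endomorphism of order dividing `r`. -/
def Splits (φ : G →* G) (r : ℕ) : Prop :=
  (∀ x, φ^[r] x = x) ∧ ∀ a, fpfN φ r a = 1

theorem Splits.twist {φ : G →* G} {r : ℕ} (h : Splits φ r) (c : G) : Splits (twistHom φ c) r := by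
  refine ⟨fun x => ?_, fun a => ?_⟩
  · rw [twistHom_iterate, h.2 c, h.1 x]
    group
  · have := fpfN_twistHom φ c r a
    rw [h.2 c, h.2 (a * c), mul_one] at this
    exact this

theorem fpfN_restrictHom (φ : G →* G) (L : Subgroup G) (hL : ∀ x ∈ L, φ x ∈ L) (n : ℕ) (a : L) :
    ((fpfN (restrictHom φ L hL) n a : L) : G) = fpfN φ n a := by
  induction n with
  | zero => rfl
  | succ n ih =>
    rw [fpfN_succ, fpfN_succ, Subgroup.coe_mul, restrictHom_coe, ih]

theorem Splits.restrict {φ : G →* G} {r : ℕ} (h : Splits φ r) (L : Subgroup G)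
    (hL : ∀ x ∈ L, φ x ∈ L) : Splits (restrictHom φ L hL) r :=
  ⟨restrictHom_iterate_eq h.1 L hL, fun a => Subtype.ext (by rw [fpfN_restrictHom, h.2]; rfl)⟩

theorem fpfN_quotHom (φ : G →* G) (N : Subgroup G) [N.Normal] (hN : ∀ x ∈ N, φ x ∈ N) (n : ℕ)
    (a : G) : fpfN (quotHom φ N hN) n (a : G ⧸ N) = ((fpfN φ n a : G) : G ⧸ N) := by
  induction n with
  | zero => rfl
  | succ n ih =>
    rw [fpfN_succ, fpfN_succ, ih, quotHom_mk]
    rfl

theorem Splits.quot {φ : G →* G} {r : ℕ} (h : Splits φ r) (N : Subgroup G) [N.Normal]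
    (hN : ∀ x ∈ N, φ x ∈ N) : Splits (quotHom φ N hN) r := by
  refine ⟨quotHom_iterate_eq h.1 N hN, fun y => ?_⟩
  obtain ⟨a, rfl⟩ := QuotientGroup.mk_surjective y
  rw [fpfN_quotHom, h.2]
  rfl

theorem fpfN_of_fixed (φ : G →* G) {c : G} (hc : φ c = c) (n : ℕ) : fpfN φ n c = c ^ n := by
  induction n with
  | zero => simp [fpfN_zero]
  | succ n ih => rw [fpfN_succ, ih, map_pow, hc, pow_succ']

theorem Splits.fpf_of_not_dvd [Finite G] {φ : G →* G} {r : ℕ} (h : Splits φ r)
    (hr : ¬ r ∣ Nat.card G) (hrp : r.Prime) : FixedPointFree φ := by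
  intro a ha
  have h1 : a ^ r = 1 := by rw [← fpfN_of_fixed φ ha, h.2]
  have h2 : orderOf a ∣ r := orderOf_dvd_of_pow_eq_one h1
  have h3 : orderOf a ∣ Nat.card G := orderOf_dvd_natCard a
  rcases (Nat.dvd_prime hrp).mp h2 with h4 | h4
  · exact orderOf_eq_one_iff.mp h4
  · exact absurd (h4 ▸ h3) hr

theorem nilpotent_of_splits_two {φ : G →* G} (h : Splits φ 2) : Group.IsNilpotent G := by
  have h1 : ∀ a, φ a = a⁻¹ := by
    intro a
    have := h.2 a
    rw [fpfN_succ, fpfN_succ, fpfN_zero, map_one, mul_one] at this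
    exact (eq_inv_of_mul_eq_one_right this)
  have h2 : ∀ a b : G, a * b = b * a := by
    intro a b
    have h3 := map_mul φ a b
    rw [h1, h1, h1, mul_inv_rev] at h3
    have h4 : (b⁻¹ * a⁻¹)⁻¹ = (a⁻¹ * b⁻¹)⁻¹ := by rw [h3]
    rw [mul_inv_rev, mul_inv_rev, inv_inv, inv_inv] at h4
    exact h4
  refine ⟨⟨1, ?_⟩⟩
  rw [Subgroup.upperCentralSeries_one, eq_top_iff]
  intro x _
  rw [Subgroup.mem_center_iff]
  intro g
  exact h2 g x

/-- An injective endomorphism of a finite group can be twisted to normalise a given Sylow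
subgroup. -/
theorem exists_twist_sylow [Finite G] (φ : G →* G) (hinj : Function.Injective φ) {q : ℕ}
    [Fact q.Prime] (Q : Sylow q G) : ∃ c : G, ∀ x ∈ Q, twistHom φ c x ∈ Q := by
  obtain ⟨Q', hQ'⟩ : ∃ Q' : Sylow q G, (Q' : Subgroup G) = (Q : Subgroup G).map φ :=
    ⟨Sylow.ofCard ((Q : Subgroup G).map φ)
      (by rw [Subgroup.card_map_of_injective hinj]; exact Q.card_eq_multiplicity), rfl⟩
  obtain ⟨c, hc⟩ := MulAction.exists_smul_eq G Q' Q
  refine ⟨c, fun x hx => ?_⟩
  show twistHom φ c x ∈ (Q : Subgroup G)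
  rw [← hc, Sylow.coe_subgroup_smul, hQ', twistHom_apply]
  exact conj_mem_conj_smul c (φ x) _ ⟨x, hx, rfl⟩

end KegelBasic

section SplitTrace

/-- The trace lemma for splitting endomorphisms. -/
theorem split_trace {V Z : Type*} [CommGroup V] [Finite V] [Group Z] [Finite Z]
    (ρ : Z →* MulAut V) (φV : V →* V) (φZ : Z →* Z)
    (hcompat : ∀ a v, φV (ρ a v) = ρ (φZ a) (φV v))
    {r : ℕ} (hrp : r.Prime)
    (hZr : ∀ a, φZ^[r] a = a) (hZf : FixedPointFree φZ)
    (hsplit : ∀ a v, fpfN ((ρ a).toMonoidHom.comp φV) r v = 1)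
    (hcop : (Nat.card Z).Coprime (Nat.card V)) (c : Z) (v : V) : ρ c v = v := by
  classical
  haveI := Fintype.ofFinite Z
  have hψ : ∀ (a : Z) (i : ℕ) (v : V),
      ((ρ a).toMonoidHom.comp φV)^[i] v = ρ (fpfN φZ i a) (φV^[i] v) := by
    intro a i
    induction i with
    | zero =>
      intro v
      simp [fpfN_zero]
    | succ i ih =>
      intro v
      rw [Function.iterate_succ_apply', ih, fpfN_succ]
      simp only [MonoidHom.comp_apply, MulEquiv.toMonoidHom_eq_coe, MonoidHom.coe_coe]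
      rw [hcompat, map_mul, MulAut.mul_apply, Function.iterate_succ_apply']
  have h1 : ∀ (a : Z) (v : V), ∏ i ∈ Finset.range r, ρ (fpfN φZ i a) (φV^[i] v) = 1 := by
    intro a v
    have h2 := hsplit a v
    rw [fpfN_eq_prod] at h2
    rw [← h2]
    exact Finset.prod_congr rfl (fun i _ => (hψ a i v).symm)
  have h2 : ∏ i ∈ Finset.range r, ∏ a : Z, ρ (fpfN φZ i a) (φV^[i] v) = 1 := by
    rw [Finset.prod_comm]
    exact Finset.prod_eq_one (fun a _ => h1 a v)
  obtain ⟨r', rfl⟩ : ∃ r', r = r' + 1 := ⟨r - 1, by have := hrp.pos; omega⟩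
  rw [Finset.prod_range_succ'] at h2
  have hT : ∀ i ∈ Finset.range r', ∏ a : Z, ρ (fpfN φZ (i + 1) a) (φV^[i + 1] v) =
      ∏ b : Z, ρ b (φV^[i + 1] v) := by
    intro i hi
    have hinj := fpfN_injective hZf hrp hZr (Nat.succ_pos i)
      (Nat.succ_lt_succ (Finset.mem_range.mp hi))
    exact Fintype.prod_bijective (fpfN φZ (i + 1))
      ⟨hinj, Finite.injective_iff_surjective.mp hinj⟩ _ _ (fun a => rfl)
  rw [Finset.prod_congr rfl hT] at h2
  have h0 : ∏ a : Z, ρ (fpfN φZ 0 a) (φV^[0] v) = v ^ Nat.card Z := by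
    simp [fpfN_zero, Nat.card_eq_fintype_card]
  rw [h0] at h2
  have hTc : ∀ w : V, ρ c (∏ b : Z, ρ b w) = ∏ b : Z, ρ b w := by
    intro w
    rw [map_prod]
    exact Fintype.prod_bijective (fun b => c * b) (Group.mulLeft_bijective c) _ _
      (fun b => by rw [map_mul, MulAut.mul_apply])
  have h3 := congrArg (ρ c) h2
  rw [map_mul, map_prod, map_one, map_pow, Finset.prod_congr rfl (fun i _ => hTc _)] at h3
  have h4 : (ρ c v) ^ Nat.card Z = v ^ Nat.card Z := by
    have := h3.trans h2.symm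
    exact mul_left_cancel this
  have h5 : (ρ c v / v) ^ Nat.card Z = 1 := by
    rw [div_pow, h4, div_self']
  have h6 : orderOf (ρ c v / v) ∣ Nat.card Z := orderOf_dvd_of_pow_eq_one h5
  have h7 : orderOf (ρ c v / v) ∣ Nat.card V := orderOf_dvd_natCard _
  have h8 : orderOf (ρ c v / v) = 1 := Nat.eq_one_of_dvd_coprimes hcop h6 h7
  exact div_eq_one.mp (orderOf_eq_one_iff.mp h8)

end SplitTrace

section NormCore

variable {A : Type*} [CommGroup A]

theorem pow_eq_pow_mod_of_pow_eq_one {M : Type*} [Monoid M] {a : M} {p : ℕ} (h : a ^ p = 1)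
    (n : ℕ) : a ^ n = a ^ (n % p) := by
  conv_lhs => rw [← Nat.mod_add_div n p, pow_add, pow_mul, h, one_pow, mul_one]

theorem prod_pow_mul_eq {p : ℕ} (hp : p.Prime) (α : MulAut A) (hα : α ^ p = 1) (j : ℕ)
    (hj : ¬ p ∣ j) (w : A) :
    ∏ i ∈ Finset.range p, (α ^ (i * j)) w = ∏ m ∈ Finset.range p, (α ^ m) w := by
  have hcop : Nat.Coprime p j := (Nat.Prime.coprime_iff_not_dvd hp).mpr hj
  have hinj : Set.InjOn (fun i => (i * j) % p) (Finset.range p : Set ℕ) := by
    intro a ha b hb hab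
    have ha' : a < p := Finset.mem_range.mp ha
    have hb' : b < p := Finset.mem_range.mp hb
    have h1 : a * j ≡ b * j [MOD p] := hab
    have h2 : a ≡ b [MOD p] := Nat.ModEq.cancel_right_of_coprime hcop h1
    exact Nat.ModEq.eq_of_lt_of_lt h2 ha' hb'
  have hmaps : Set.MapsTo (fun i => (i * j) % p) (Finset.range p : Set ℕ)
      (Finset.range p : Set ℕ) := by
    intro a _
    exact Finset.mem_coe.mpr (Finset.mem_range.mpr (Nat.mod_lt _ hp.pos))
  have hsurj : Set.SurjOn (fun i => (i * j) % p) (Finset.range p : Set ℕ)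
      (Finset.range p : Set ℕ) :=
    Finset.surjOn_of_injOn_of_card_le _ hmaps hinj le_rfl
  refine Finset.prod_nbij (fun i => (i * j) % p) (fun a ha => hmaps ha) hinj hsurj ?_
  intro i _
  rw [pow_eq_pow_mod_of_pow_eq_one hα (i * j)]

/-- The norm computation for a family of splitting twists. -/
theorem norm_core {p : ℕ} (hp : p.Prime) (α : MulAut A) (hα : α ^ p = 1) (b : ℕ → A → A)
    (hb0 : ∀ u, b 0 u = u)
    (h2 : ∀ (i : ℕ) (u : A), ∏ j ∈ Finset.range p, (α ^ (i * j)) (b j u) = 1) (u : A) :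
    u ^ p * ∏ j ∈ Finset.Ico 1 p, ∏ m ∈ Finset.range p, (α ^ m) (b j u) = 1 := by
  have h3 : ∏ j ∈ Finset.range p, ∏ i ∈ Finset.range p, (α ^ (i * j)) (b j u) = 1 := by
    rw [Finset.prod_comm]
    exact Finset.prod_eq_one (fun i _ => h2 i u)
  rw [Finset.range_eq_Ico, Finset.prod_eq_prod_Ico_succ_bot hp.pos] at h3
  rw [← h3]
  congr 1
  · simp [hb0]
  · apply Finset.prod_congr rfl
    intro j hj
    rw [Finset.mem_Ico] at hj
    rw [← Finset.range_eq_Ico]
    exact (prod_pow_mul_eq hp α hα j (Nat.not_dvd_of_pos_of_lt (by omega) hj.2) (b j u)).symm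

theorem norm_fixed {p : ℕ} (α : MulAut A) (hα : α ^ p = 1) (w : A) :
    α (∏ m ∈ Finset.range p, (α ^ m) w) = ∏ m ∈ Finset.range p, (α ^ m) w := by
  rw [map_prod]
  have h1 : ∀ m ∈ Finset.range p, α ((α ^ m) w) = (α ^ (m + 1)) w := by
    intro m _
    rw [pow_succ', MulAut.mul_apply]
  rw [Finset.prod_congr rfl h1]
  have h2 := Finset.prod_range_succ' (fun m => (α ^ m) w) p
  have h3 := Finset.prod_range_succ (fun m => (α ^ m) w) p
  rw [h3, hα] at h2
  simp only [pow_zero, MulAut.one_apply] at h2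
  exact mul_right_cancel h2.symm

/-- Under the hypotheses of `norm_core`, `α` fixes `u ^ p`. -/
theorem norm_core_fixed {p : ℕ} (hp : p.Prime) (α : MulAut A) (hα : α ^ p = 1) (b : ℕ → A → A)
    (hb0 : ∀ u, b 0 u = u)
    (h2 : ∀ (i : ℕ) (u : A), ∏ j ∈ Finset.range p, (α ^ (i * j)) (b j u) = 1) (u : A) :
    α (u ^ p) = u ^ p := by
  have h3 := norm_core hp α hα b hb0 h2 u
  have h4 : u ^ p = (∏ j ∈ Finset.Ico 1 p, ∏ m ∈ Finset.range p, (α ^ m) (b j u))⁻¹ :=
    eq_inv_of_mul_eq_one_left h3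
  rw [h4, map_inv, map_prod]
  congr 1
  exact Finset.prod_congr rfl (fun j _ => norm_fixed α hα _)

end NormCore

section SplitCentralizes

variable {G : Type*} [Group G]

open scoped IsMulCommutative in
/-- If `φ` is a splitting endomorphism of prime order `r` of the finite group `G`, then
every `φ`-invariant subgroup `P` of order prime to `r` centralises every `φ`-invariant abelian
normal subgroup `V` of order prime to that of `P`. -/
theorem splits_centralizes [Finite G] (φ : G →* G) {r : ℕ} (hrp : r.Prime) (hφ : Splits φ r)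
    (V P : Subgroup G) [V.Normal] (hVc : ∀ a ∈ V, ∀ b ∈ V, a * b = b * a)
    (hVφ : ∀ x ∈ V, φ x ∈ V) (hPφ : ∀ x ∈ P, φ x ∈ P) (hPr : ¬ r ∣ Nat.card P)
    (hcop : (Nat.card P).Coprime (Nat.card V)) : P ≤ Subgroup.centralizer (V : Set G) := by
  haveI : IsMulCommutative V := ⟨⟨fun a b => Subtype.ext (hVc a a.2 b b.2)⟩⟩
  obtain ⟨ρ, hρ⟩ : ∃ ρ : P →* MulAut V, ∀ (g : P) (v : V), ((ρ g v : V) : G) = g * v * (g : G)⁻¹ :=
    ⟨(MulAut.conjNormal).comp P.subtype, fun g v => MulAut.conjNormal_apply (g : G) v⟩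
  have hsplit : ∀ (a : P) (v : V),
      fpfN ((ρ a).toMonoidHom.comp (restrictHom φ V hVφ)) r v = 1 := by
    intro a v
    have h1 : ∀ n : ℕ, ((fpfN ((ρ a).toMonoidHom.comp (restrictHom φ V hVφ)) n v : V) : G) =
        fpfN (twistHom φ (a : G)) n (v : G) := by
      intro n
      induction n with
      | zero => rfl
      | succ n ih =>
        rw [fpfN_succ, fpfN_succ, Subgroup.coe_mul, twistHom_apply, ← ih]
        congr 1
        exact hρ a _
    apply Subtype.ext
    rw [h1, (hφ.twist (a : G)).2]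
    rfl
  have key := split_trace ρ (restrictHom φ V hVφ) (restrictHom φ P hPφ) ?_ hrp
    (restrictHom_iterate_eq hφ.1 P hPφ) ((hφ.restrict P hPφ).fpf_of_not_dvd hPr hrp) hsplit hcop
  · intro c hc
    rw [Subgroup.mem_centralizer_iff]
    intro v hv
    have h1 := congrArg Subtype.val (key ⟨c, hc⟩ ⟨v, hv⟩)
    rw [hρ] at h1
    have h2 : c * v * c⁻¹ = v := h1
    calc v * c = c * v * c⁻¹ * c := by rw [h2]
      _ = c * v := by group
  · intro a v
    apply Subtype.ext
    rw [restrictHom_coe, hρ, hρ, restrictHom_coe, restrictHom_coe, map_mul, map_mul, map_inv]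

open scoped IsMulCommutative in
/-- If `φ` is a splitting endomorphism of prime order `r`, then an element `z` of order
dividing `r` fixed by `φ` centralises every `φ`-invariant abelian normal subgroup of order
prime to `r`. -/
theorem splits_fixed_centralizes [Finite G] (φ : G →* G) {r : ℕ} (hrp : r.Prime)
    (hφ : Splits φ r) (A : Subgroup G) [hAn : A.Normal] (hAc : ∀ a ∈ A, ∀ b ∈ A, a * b = b * a)
    (hAφ : ∀ x ∈ A, φ x ∈ A) (hAr : ¬ r ∣ Nat.card A) (z : G) (hzφ : φ z = z)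
    (hzr : z ^ r = 1) : ∀ u ∈ A, z * u * z⁻¹ = u := by
  haveI : IsMulCommutative A := ⟨⟨fun a b => Subtype.ext (hAc a a.2 b b.2)⟩⟩
  obtain ⟨ρ, hρ⟩ : ∃ ρ : G →* MulAut A, ∀ (g : G) (v : A), ((ρ g v : A) : G) = g * v * g⁻¹ :=
    ⟨MulAut.conjNormal, fun g v => MulAut.conjNormal_apply g v⟩
  have hα : (ρ z) ^ r = 1 := by rw [← map_pow, hzr, map_one]
  have h2 : ∀ (i : ℕ) (u : A), ∏ j ∈ Finset.range r,
      ((ρ z) ^ (i * j)) ((restrictHom φ A hAφ)^[j] u) = 1 := by
    intro i u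
    have hψ := hφ.twist (z ^ i)
    have hAψ : ∀ x ∈ A, twistHom φ (z ^ i) x ∈ A := fun x hx => by
      rw [twistHom_apply]
      exact hAn.conj_mem _ (hAφ x hx) _
    have h3 := (hψ.restrict A hAψ).2 u
    rw [fpfN_eq_prod] at h3
    rw [← h3]
    apply Finset.prod_congr rfl
    intro j _
    apply Subtype.ext
    rw [restrictHom_iterate, twistHom_iterate, fpfN_of_fixed φ (by rw [map_pow, hzφ]),
      ← map_pow, hρ, restrictHom_iterate, ← pow_mul]
  intro u hu
  have h4 := norm_core_fixed hrp (ρ z) hα (fun j u => (restrictHom φ A hAφ)^[j] u)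
    (fun u => rfl) h2 ⟨u, hu⟩
  have h5 : ((ρ z) ⟨u, hu⟩ / ⟨u, hu⟩) ^ r = 1 := by rw [div_pow, ← map_pow, h4, div_self']
  have h6 : orderOf ((ρ z) ⟨u, hu⟩ / ⟨u, hu⟩) ∣ r := orderOf_dvd_of_pow_eq_one h5
  have h7 : orderOf ((ρ z) ⟨u, hu⟩ / ⟨u, hu⟩) ∣ Nat.card A := orderOf_dvd_natCard _
  have h8 : orderOf ((ρ z) ⟨u, hu⟩ / ⟨u, hu⟩) = 1 := by
    rcases (Nat.dvd_prime hrp).mp h6 with h | h
    · exact h
    · exact absurd (h ▸ h7) hAr
  have h9 : (ρ z) ⟨u, hu⟩ = ⟨u, hu⟩ := div_eq_one.mp (orderOf_eq_one_iff.mp h8)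
  have h10 := congrArg Subtype.val h9
  rw [hρ] at h10
  exact h10

/-- A splitting endomorphism of prime order `r` normalising a nontrivial `r`-subgroup `P` fixes
an element of order `r` of `P`. -/
theorem exists_fixed_of_splits [Finite G] (φ : G →* G) {r : ℕ} (hrp : r.Prime)
    (hφ : Splits φ r) (P : Subgroup G) (hPp : IsPGroup r P) (hP1 : P ≠ ⊥)
    (hPφ : ∀ x ∈ P, φ x ∈ P) : ∃ z : G, z ∈ P ∧ φ z = z ∧ z ≠ 1 ∧ z ^ r = 1 := by
  haveI : Fact r.Prime := ⟨hrp⟩
  have hbij : Function.Bijective (restrictHom φ P hPφ) :=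
    ⟨fpf_injective_of_iterate hrp.pos (restrictHom_iterate_eq hφ.1 _ hPφ),
     fpf_surjective_of_iterate hrp.pos (restrictHom_iterate_eq hφ.1 _ hPφ)⟩
  obtain ⟨e, he⟩ : ∃ e : MulAut P, ∀ x, e x = restrictHom φ P hPφ x :=
    ⟨MulEquiv.ofBijective _ hbij, fun x => rfl⟩
  have hepow : ∀ (n : ℕ) (x : P), (e ^ n) x = (restrictHom φ P hPφ)^[n] x := by
    intro n
    induction n with
    | zero => intro x; rfl
    | succ n ih =>
      intro x
      rw [pow_succ', MulAut.mul_apply, ih, he, Function.iterate_succ_apply']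
  have her : e ^ r = 1 := by
    ext x
    rw [hepow, restrictHom_iterate_eq hφ.1]
    rfl
  have hΓ : IsPGroup r (Subgroup.zpowers e) := by
    intro g
    refine ⟨1, ?_⟩
    obtain ⟨g, hg⟩ := g
    obtain ⟨m, rfl⟩ := Subgroup.mem_zpowers_iff.mp hg
    apply Subtype.ext
    rw [pow_one]
    show (e ^ m) ^ r = 1
    rw [← zpow_natCast, ← zpow_mul, mul_comm, zpow_mul, zpow_natCast, her, one_zpow]
  have hdvd : r ∣ Nat.card P := by
    rcases hPp.card_eq_or_dvd with h | h
    · exact absurd (Subgroup.eq_bot_of_card_eq _ h) hP1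
    · exact h
  have h1fix : (1 : P) ∈ MulAction.fixedPoints (Subgroup.zpowers e) P := by
    intro g
    rw [Subgroup.smul_def, MulAut.smul_def, map_one]
  obtain ⟨b, hb, hb1⟩ := hΓ.exists_fixed_point_of_prime_dvd_card_of_fixed_point P hdvd h1fix
  have hbφ : φ (b : G) = b := by
    have h1 := hb ⟨e, Subgroup.mem_zpowers e⟩
    rw [Subgroup.smul_def, MulAut.smul_def] at h1
    have h2 : e b = b := h1
    rw [he] at h2
    exact congrArg Subtype.val h2
  obtain ⟨F, hF⟩ : ∃ F : Subgroup G, ∀ x, x ∈ F ↔ x ∈ P ∧ φ x = x := by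
    refine ⟨{ carrier := {x | x ∈ P ∧ φ x = x}
              one_mem' := ⟨P.one_mem, map_one φ⟩
              mul_mem' := ?_
              inv_mem' := ?_ }, fun x => Iff.rfl⟩
    · rintro a c ⟨ha, ha'⟩ ⟨hc, hc'⟩
      exact ⟨P.mul_mem ha hc, by rw [map_mul, ha', hc']⟩
    · rintro a ⟨ha, ha'⟩
      exact ⟨P.inv_mem ha, by rw [map_inv, ha']⟩
  have hFP : F ≤ P := fun x hx => ((hF x).mp hx).1
  have hFp : IsPGroup r F := hPp.to_le hFP
  have hF1 : F ≠ ⊥ := by
    intro h
    have hbF : (b : G) ∈ F := (hF _).mpr ⟨b.2, hbφ⟩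
    rw [h, Subgroup.mem_bot] at hbF
    exact hb1 (Subtype.ext hbF).symm
  have hFdvd : r ∣ Nat.card F := by
    rcases hFp.card_eq_or_dvd with h | h
    · exact absurd (Subgroup.eq_bot_of_card_eq _ h) hF1
    · exact h
  obtain ⟨x, hx⟩ := exists_prime_orderOf_dvd_card' (G := F) r hFdvd
  have hxF := (hF _).mp x.2
  refine ⟨x, hxF.1, hxF.2, ?_, ?_⟩
  · intro h
    have hx1 : x = 1 := Subtype.ext h
    rw [hx1, orderOf_one] at hx
    exact hrp.one_lt.ne hx
  · rw [← Subgroup.coe_pow, ← hx, pow_orderOf_eq_one]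
    rfl

end SplitCentralizes

end Cfsg.Agent.Lib.Helper1
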