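import Mathlib
import Cfsg.Agent.Lib.Helper1.KegelBasic

set_option autoImplicit false
set_option linter.style.haveILetI false

/-!
Kegel's theorem: a finite group with a splitting endomorphism of prime order is nilpotent.
-/

namespace Cfsg.Agent.Lib.Helper1

open MonoidHom Cfsg

universe u

/-- If `G ⧸ Z` is nilpotent then `Q ⊔ Z` is normal for every Sylow subgroup `Q`. -/
theorem sylow_sup_normal_of_quotient_nilpotent {G : Type u} [Group G] [Finite G]
    (Z : Subgroup G) [Z.Normal] (h : Group.IsNilpotent (G ⧸ Z)) {q : ℕ} [Fact q.Prime]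
    (Q : Sylow q G) : ((Q : Subgroup G) ⊔ Z).Normal := by
  have hsyl : ∀ (q : ℕ) (_ : Fact q.Prime) (S : Sylow q (G ⧸ Z)),
      (S : Subgroup (G ⧸ Z)).Normal :=
    (Group.isNilpotent_of_finite_tfae.out 0 3).mp h
  have h1 := hsyl q inferInstance (Q.mapSurjective (QuotientGroup.mk'_surjective Z))
  rw [Sylow.coe_mapSurjective] at h1
  have h2 := h1.comap (QuotientGroup.mk' Z)
  rw [Subgroup.comap_map_eq, QuotientGroup.ker_mk'] at h2
  exact h2

/-- If `X ⊔ Y` is normal, `Y` is normal, `X` centralises `Y` and the orders are coprime, then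
`X` is normal. -/
theorem normal_of_sup_normal_of_centralizes {G : Type u} [Group G] [Finite G]
    (X Y : Subgroup G) [Y.Normal] (hXY : (X ⊔ Y).Normal)
    (hcent : ∀ x ∈ X, ∀ y ∈ Y, x * y = y * x)
    (hcop : (Nat.card X).Coprime (Nat.card Y)) : X.Normal := by
  constructor
  intro x hx g
  have h1 : g * x * g⁻¹ ∈ X ⊔ Y := hXY.conj_mem x (Subgroup.mem_sup_left hx) g
  obtain ⟨a, ha, b, hb, hab⟩ := Subgroup.mem_sup_of_normal_right.mp h1
  have h2 : (a * b) ^ Nat.card X = b ^ Nat.card X := by
    rw [(show Commute a b from hcent a ha b hb).mul_pow]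
    have h : a ^ Nat.card X = 1 :=
      congrArg Subtype.val (pow_card_eq_one' (G := X) (x := ⟨a, ha⟩))
    rw [h, one_mul]
  have h3 : (g * x * g⁻¹) ^ Nat.card X = 1 := by
    rw [conj_pow]
    have h : x ^ Nat.card X = 1 :=
      congrArg Subtype.val (pow_card_eq_one' (G := X) (x := ⟨x, hx⟩))
    rw [h, mul_one, mul_inv_cancel]
  rw [← hab, h2] at h3
  have h4 : orderOf b ∣ Nat.card X := orderOf_dvd_of_pow_eq_one h3
  have h5 : orderOf b ∣ Nat.card Y := Subgroup.orderOf_dvd_natCard Y hb
  have h6 : orderOf b = 1 := Nat.eq_one_of_dvd_coprimes hcop h4 h5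
  have h7 : b = 1 := orderOf_eq_one_iff.mp h6
  rw [← hab, h7, mul_one]
  exact ha

set_option maxHeartbeats 1600000 in
/-- **Kegel's theorem**: a finite group with a splitting endomorphism of prime order is
nilpotent. -/
theorem kegel_aux {r : ℕ} (hrp : r.Prime) :
    ∀ (n : ℕ) (G : Type u) [Group G] [Finite G] (φ : G →* G), Nat.card G ≤ n →
      Splits φ r → Group.IsNilpotent G := by
  intro n
  induction n using Nat.strong_induction_on with
  | _ n IH =>
    intro G _ _ φ₀ hn hφ₀
    by_cases hr2 : r = 2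
    · subst hr2
      exact nilpotent_of_splits_two hφ₀
    by_cases hrdvd : r ∣ Nat.card G
    swap
    · exact fpf_nilpotent_aux hrp (Nat.card G) G φ₀ le_rfl hφ₀.1
        (hφ₀.fpf_of_not_dvd hrdvd hrp)
    haveI : Fact r.Prime := ⟨hrp⟩
    obtain ⟨P⟩ : Nonempty (Sylow r G) := inferInstance
    obtain ⟨c₀, hc₀⟩ := exists_twist_sylow φ₀ (fpf_injective_of_iterate hrp.pos hφ₀.1) P
    obtain ⟨φ, hφdef⟩ : ∃ φ : G →* G, φ = twistHom φ₀ c₀ := ⟨_, rfl⟩
    have hφ : Splits φ r := hφdef ▸ hφ₀.twist c₀
    have hPφ : ∀ x ∈ (P : Subgroup G), φ x ∈ (P : Subgroup G) := hφdef ▸ hc₀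
    have hinj : Function.Injective φ := fpf_injective_of_iterate hrp.pos hφ.1
    have hord : ∀ x, orderOf (φ x) = orderOf x := fun x => orderOf_injective φ hinj x
    have ihL : ∀ (ψ : G →* G), Splits ψ r → ∀ L : Subgroup G, (∀ x ∈ L, ψ x ∈ L) → L ≠ ⊤ →
        Group.IsNilpotent L := by
      intro ψ hψ L hL hLtop
      have hlt : Nat.card L < Nat.card G := by
        apply lt_of_le_of_ne (Subgroup.card_le_card_group L)
        intro h
        exact hLtop ((Subgroup.card_eq_iff_eq_top L).mp h)
      exact IH (Nat.card L) (by omega) L (restrictHom ψ L hL) le_rfl (hψ.restrict L hL)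
    have ihQ : ∀ (N : Subgroup G) [N.Normal], (∀ x ∈ N, φ x ∈ N) → N ≠ ⊥ →
        Group.IsNilpotent (G ⧸ N) := by
      intro N _ hN hN1
      have h1 : Nat.card G = Nat.card (G ⧸ N) * Nat.card N :=
        Subgroup.card_eq_card_quotient_mul_card_subgroup N
      have h2 : 1 < Nat.card N := by
        haveI : Nontrivial N := (Subgroup.nontrivial_iff_ne_bot _).mpr hN1
        exact Finite.one_lt_card
      have h3 : 0 < Nat.card (G ⧸ N) := Nat.card_pos
      exact IH (Nat.card (G ⧸ N)) (by nlinarith) (G ⧸ N) (quotHom φ N hN) le_rfl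
        (hφ.quot N hN)
    have hP1 : (P : Subgroup G) ≠ ⊥ := P.ne_bot_of_dvd_card hrdvd
    by_cases hA : ∃ R : Subgroup G, R ≠ ⊥ ∧ R.Normal ∧ IsPGroup r R ∧ ∀ x ∈ R, φ x ∈ R
    · -- there is a nontrivial invariant normal `r`-subgroup
      obtain ⟨R, hR1, hRn, hRp, hRφ⟩ := hA
      haveI := hRn
      obtain ⟨Z, hZdef⟩ : ∃ Z : Subgroup G, Z = R ⊓ Subgroup.centralizer (R : Set G) := ⟨_, rfl⟩
      have hZ1 : Z ≠ ⊥ := hZdef ▸ inf_centralizer_ne_bot hRp hR1
      haveI hZn : Z.Normal := by
        rw [hZdef]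
        infer_instance
      have hZR : Z ≤ R := hZdef ▸ inf_le_left
      have hZp : IsPGroup r Z := hRp.to_le hZR
      have hZc : ∀ a ∈ Z, ∀ b ∈ Z, a * b = b * a := by
        intro a ha b hb
        rw [hZdef] at ha hb
        exact (Subgroup.mem_centralizer_iff.mp (Subgroup.mem_inf.mp hb).2) a
          (Subgroup.mem_inf.mp ha).1
      have hZφ : ∀ x ∈ Z, φ x ∈ Z := by
        intro x hx
        rw [hZdef] at hx ⊢
        obtain ⟨hx1, hx2⟩ := Subgroup.mem_inf.mp hx
        refine Subgroup.mem_inf.mpr ⟨hRφ x hx1, ?_⟩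
        rw [Subgroup.mem_centralizer_iff] at hx2 ⊢
        intro y hy
        obtain ⟨y', hy', rfl⟩ := exists_preimage_mem hinj _ hRφ y hy
        rw [← map_mul, ← map_mul, hx2 y' hy']
      have hGZ : Group.IsNilpotent (G ⧸ Z) := ihQ Z hZφ hZ1
      apply (Group.isNilpotent_of_finite_tfae.out 0 3).mpr
      intro q hq Q
      have hQZ := sylow_sup_normal_of_quotient_nilpotent Z hGZ Q
      by_cases hqr : q = r
      · subst hqr
        have hZQ : Z ≤ (Q : Subgroup G) := normal_pgroup_le_sylow hZn hZp Q
        rw [sup_eq_left.mpr hZQ] at hQZ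
        exact hQZ
      · obtain ⟨c, hc⟩ := exists_twist_sylow φ hinj Q
        have hψ := hφ.twist c
        have hZψ : ∀ x ∈ Z, twistHom φ c x ∈ Z := by
          intro x hx
          rw [twistHom_apply]
          exact hZn.conj_mem _ (hZφ x hx) c
        have hq' : q.Prime := hq.out
        obtain ⟨i, hi⟩ := IsPGroup.iff_card.mp Q.isPGroup'
        obtain ⟨j, hj⟩ := IsPGroup.iff_card.mp hZp
        have hcop : (Nat.card (Q : Subgroup G)).Coprime (Nat.card Z) := by
          rw [hi, hj]
          exact Nat.Coprime.pow i j ((Nat.coprime_primes hq' hrp).mpr hqr)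
        have hQr : ¬ r ∣ Nat.card (Q : Subgroup G) := by
          rw [hi]
          intro h
          exact hqr ((Nat.prime_dvd_prime_iff_eq hrp hq').mp (hrp.dvd_of_dvd_pow h)).symm
        have hcent := splits_centralizes (twistHom φ c) hrp hψ Z (Q : Subgroup G) hZc hZψ hc
          hQr hcop
        apply normal_of_sup_normal_of_centralizes (Q : Subgroup G) Z hQZ ?_ hcop
        intro x hx y hy
        exact ((Subgroup.mem_centralizer_iff.mp (hcent hx)) y hy).symm
    · -- no nontrivial invariant normal `r`-subgroup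
      have hB : ∀ R : Subgroup G, R.Normal → IsPGroup r R → (∀ x ∈ R, φ x ∈ R) → R = ⊥ := by
        intro R h1 h2 h3
        by_contra h
        exact hA ⟨R, h, h1, h2, h3⟩
      have hPmap : (P : Subgroup G) = (P : Subgroup G).map φ := by
        apply le_antisymm
        · intro y hy
          obtain ⟨x, hx, rfl⟩ := exists_preimage_mem hinj _ hPφ y hy
          exact ⟨x, hx, rfl⟩
        · rintro _ ⟨x, hx, rfl⟩
          exact hPφ x hx
      obtain ⟨J, hJdef⟩ : ∃ J : Subgroup G, J = thompsonSubgroupOf r (P : Subgroup G) :=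
        ⟨_, rfl⟩
      have hJmap : J = J.map φ := by
        rw [hJdef]
        exact thompsonSubgroupOf_eq_of_eq_map r φ hinj _ _ hPmap
      have hJφ : ∀ x ∈ J, φ x ∈ J := by
        intro x hx
        rw [hJmap]
        exact ⟨x, hx, rfl⟩
      have hJp : IsPGroup r J :=
        hJdef ▸ P.isPGroup'.to_le (Cfsg.Agent.Lib.Helper27.thompsonSubgroupOf_le r _)
      have hJ1 : J ≠ ⊥ := hJdef ▸ thompsonSubgroupOf_ne_bot P.isPGroup' hP1
      obtain ⟨Zp, hZpdef⟩ : ∃ Zp : Subgroup G,
          Zp = (P : Subgroup G) ⊓ Subgroup.centralizer ((P : Subgroup G) : Set G) := ⟨_, rfl⟩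
      have hZpφ : ∀ x ∈ Zp, φ x ∈ Zp := by
        intro x hx
        rw [hZpdef] at hx ⊢
        obtain ⟨hx1, hx2⟩ := Subgroup.mem_inf.mp hx
        refine Subgroup.mem_inf.mpr ⟨hPφ x hx1, ?_⟩
        rw [Subgroup.mem_centralizer_iff] at hx2 ⊢
        intro y hy
        obtain ⟨y', hy', rfl⟩ := exists_preimage_mem hinj _ hPφ y hy
        rw [← map_mul, ← map_mul, hx2 y' hy']
      have hZp1 : Zp ≠ ⊥ := hZpdef ▸ inf_centralizer_ne_bot P.isPGroup' hP1
      have hZpp : IsPGroup r Zp := P.isPGroup'.to_le (hZpdef ▸ inf_le_left)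
      have hsolvable_of : ∀ (M : Subgroup G) [M.Normal], Group.IsSolvable M →
          Group.IsSolvable (G ⧸ M) → Group.IsSolvable G := by
        intro M _ h1 h2
        exact Group.isSolvable_of_ker_le_range M.subtype (QuotientGroup.mk' M)
          (by rw [QuotientGroup.ker_mk', Subgroup.range_subtype])
      have hNJ : Subgroup.normalizer (J : Set G) ≠ ⊤ := by
        intro h
        exact hJ1 (hB J (Subgroup.normalizer_eq_top_iff.mp h) hJp hJφ)
      have hCZ : Subgroup.centralizer (Zp : Set G) ≠ ⊤ := by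
        intro h
        apply hZp1
        apply hB Zp ?_ hZpp hZpφ
        constructor
        intro z hz g
        have hg : g ∈ Subgroup.centralizer (Zp : Set G) := h ▸ Subgroup.mem_top g
        have h1 := (Subgroup.mem_centralizer_iff.mp hg) z hz
        have h2 : g * z * g⁻¹ = z := by
          rw [← h1]
          group
        rw [h2]
        exact hz
      have hNJφ : ∀ x ∈ Subgroup.normalizer (J : Set G),
          φ x ∈ Subgroup.normalizer (J : Set G) := by
        intro g hg
        apply mem_normalizer_of_conj_mem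
        intro x hx
        obtain ⟨x', hx', rfl⟩ := exists_preimage_mem hinj _ hJφ x hx
        rw [← map_mul, ← map_inv, ← map_mul]
        exact hJφ _ ((Subgroup.mem_normalizer_iff.mp hg x').mp hx')
      have hCZφ : ∀ x ∈ Subgroup.centralizer (Zp : Set G),
          φ x ∈ Subgroup.centralizer (Zp : Set G) := by
        intro g hg
        rw [Subgroup.mem_centralizer_iff] at hg ⊢
        intro x hx
        obtain ⟨x', hx', rfl⟩ := exists_preimage_mem hinj _ hZpφ x hx
        rw [← map_mul, ← map_mul, hg x' hx']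
      haveI hNJnil : Group.IsNilpotent (Subgroup.normalizer (J : Set G)) :=
        ihL φ hφ _ hNJφ hNJ
      haveI hCZnil : Group.IsNilpotent (Subgroup.centralizer (Zp : Set G)) :=
        ihL φ hφ _ hCZφ hCZ
      have hnpc : HasNormalPComplement r G := by
        apply thompson_normal_p_complement hr2 P
        · rw [← hJdef]
          exact hasNormalPComplement_of_isNilpotent r
        · show HasNormalPComplement r ↥(Subgroup.centralizer ((((P : Subgroup G) ⊓
            Subgroup.centralizer ((P : Subgroup G) : Set G) : Subgroup G)) : Set G))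
          rw [← hZpdef]
          exact hasNormalPComplement_of_isNilpotent r
      rw [hasNormalPComplement_iff_frobCond, frobCond_iff_npc] at hnpc
      obtain ⟨K, hKn, hKc, k, hKi⟩ := hnpc
      haveI := hKn
      have hKφ : ∀ x ∈ K, φ x ∈ K := by
        intro x hx
        apply mem_of_pow_mem_of_coprime (Subgroup.pow_index_mem K (φ x))
        rw [hKi, hord]
        apply Nat.Coprime.pow_right
        exact Nat.Coprime.coprime_dvd_left (Subgroup.orderOf_dvd_natCard K hx) hKc
      have hKtop : K ≠ ⊤ := by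
        intro h
        rw [h, Subgroup.card_top] at hKc
        exact hrp.one_lt.ne' (Nat.Coprime.eq_one_of_dvd hKc.symm hrdvd)
      have hsolv : Group.IsSolvable G := by
        haveI h1 : Group.IsNilpotent K := ihL φ hφ K hKφ hKtop
        haveI h2 : Group.IsNilpotent (G ⧸ K) := by
          have hcard : Nat.card (G ⧸ K) = r ^ k := hKi
          exact (IsPGroup.of_card hcard).isNilpotent
        exact hsolvable_of K (@IsNilpotent.to_isSolvable _ _ h1)
          (@IsNilpotent.to_isSolvable _ _ h2)
      haveI : Nontrivial G := by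
        obtain ⟨x, hx1⟩ := (Subgroup.ne_bot_iff_exists_ne_one).mp hP1
        exact ⟨⟨(x : G), 1, fun h => hx1 (Subtype.ext h)⟩⟩
      obtain ⟨A, hA1, hAn, hAφ, hAc⟩ : ∃ A : Subgroup G, A ≠ ⊥ ∧ A.Normal ∧
          (∀ x ∈ A, φ x ∈ A) ∧ ∀ a ∈ A, ∀ b ∈ A, a * b = b * a := by
        classical
        have hex := hsolv.solvable
        obtain ⟨m, hm, hmin⟩ : ∃ m, derivedSeries G m = ⊥ ∧ ∀ j < m, derivedSeries G j ≠ ⊥ :=
          ⟨Nat.find hex, Nat.find_spec hex, fun j hj => Nat.find_min hex hj⟩
        have hm0 : m ≠ 0 := by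
          rintro rfl
          rw [derivedSeries_zero] at hm
          exact top_ne_bot hm
        obtain ⟨m', rfl⟩ : ∃ m', m = m' + 1 := ⟨m - 1, by omega⟩
        refine ⟨derivedSeries G m', hmin m' (Nat.lt_succ_self m'), derivedSeries_normal G m',
          ?_, ?_⟩
        · intro x hx
          exact map_derivedSeries_le_derivedSeries φ m' ⟨x, hx, rfl⟩
        · rw [derivedSeries_succ, Subgroup.commutator_eq_bot_iff_le_centralizer] at hm
          intro a ha b hb
          exact (Subgroup.mem_centralizer_iff.mp (hm hb)) a ha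
      haveI := hAn
      have hAr : ¬ r ∣ Nat.card A := by
        intro hdvd
        obtain ⟨V, hVmem⟩ := exists_torsion_subgroup A hAc r
        have hV1 : V ≠ ⊥ := by
          obtain ⟨x, hx⟩ := exists_prime_orderOf_dvd_card' (G := A) r hdvd
          intro h
          have hxV : (x : G) ∈ V := by
            rw [hVmem]
            refine ⟨x.2, ?_⟩
            rw [← Subgroup.coe_pow, ← hx, pow_orderOf_eq_one]
            rfl
          rw [h, Subgroup.mem_bot] at hxV
          have hx1 : x = 1 := Subtype.ext hxV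
          rw [hx1, orderOf_one] at hx
          exact hrp.one_lt.ne hx
        have hVn : V.Normal := by
          constructor
          intro v hv g
          rw [hVmem] at hv ⊢
          refine ⟨hAn.conj_mem v hv.1 g, ?_⟩
          rw [conj_pow, hv.2, mul_one, mul_inv_cancel]
        have hVφ : ∀ x ∈ V, φ x ∈ V := by
          intro x hx
          rw [hVmem] at hx ⊢
          refine ⟨hAφ x hx.1, ?_⟩
          rw [← map_pow, hx.2, map_one]
        have hVr : IsPGroup r V := by
          intro v
          refine ⟨1, ?_⟩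
          apply Subtype.ext
          rw [pow_one, Subgroup.coe_pow]
          exact ((hVmem v).mp v.2).2
        exact hV1 (hB V hVn hVr hVφ)
      obtain ⟨z, hzP, hzφ, hz1, hzr⟩ :=
        exists_fixed_of_splits φ hrp hφ (P : Subgroup G) P.isPGroup' hP1 hPφ
      have hzA := splits_fixed_centralizes φ hrp hφ A hAc hAφ hAr z hzφ hzr
      obtain ⟨D, hDdef⟩ : ∃ D : Subgroup G,
          D = (P : Subgroup G) ⊓ Subgroup.centralizer (A : Set G) := ⟨_, rfl⟩
      have hGA : Group.IsNilpotent (G ⧸ A) := ihQ A hAφ hA1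
      have hPA := sylow_sup_normal_of_quotient_nilpotent A hGA P
      have hCAn : (Subgroup.centralizer (A : Set G)).Normal := inferInstance
      have hDn : D.Normal := by
        constructor
        intro d hd g
        rw [hDdef] at hd ⊢
        obtain ⟨hd1, hd2⟩ := Subgroup.mem_inf.mp hd
        have h1 : g * d * g⁻¹ ∈ (P : Subgroup G) ⊔ A :=
          hPA.conj_mem d (Subgroup.mem_sup_left hd1) g
        have h2 : g * d * g⁻¹ ∈ Subgroup.centralizer (A : Set G) := hCAn.conj_mem d hd2 g
        obtain ⟨a, ha, b, hb, hab⟩ := Subgroup.mem_sup_of_normal_right.mp h1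
        have hbC : b ∈ Subgroup.centralizer (A : Set G) := by
          rw [Subgroup.mem_centralizer_iff]
          intro h hh
          exact hAc h hh b hb
        have haC : a ∈ Subgroup.centralizer (A : Set G) := by
          have h3 : a = g * d * g⁻¹ * b⁻¹ := by
            rw [← hab]
            group
          rw [h3]
          exact Subgroup.mul_mem _ h2 (Subgroup.inv_mem _ hbC)
        have hcomm : Commute a b := ((Subgroup.mem_centralizer_iff.mp haC) b hb).symm
        have h4 : (a * b) ^ Nat.card (P : Subgroup G) = b ^ Nat.card (P : Subgroup G) := by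
          rw [hcomm.mul_pow]
          have h : a ^ Nat.card (P : Subgroup G) = 1 :=
            congrArg Subtype.val (pow_card_eq_one' (G := (P : Subgroup G)) (x := ⟨a, ha⟩))
          rw [h, one_mul]
        have h5 : (g * d * g⁻¹) ^ Nat.card (P : Subgroup G) = 1 := by
          rw [conj_pow]
          have h : d ^ Nat.card (P : Subgroup G) = 1 :=
            congrArg Subtype.val (pow_card_eq_one' (G := (P : Subgroup G)) (x := ⟨d, hd1⟩))
          rw [h, mul_one, mul_inv_cancel]
        rw [← hab, h4] at h5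
        have h6 : orderOf b ∣ Nat.card (P : Subgroup G) := orderOf_dvd_of_pow_eq_one h5
        have h7 : orderOf b ∣ Nat.card A := Subgroup.orderOf_dvd_natCard A hb
        obtain ⟨i, hi⟩ := IsPGroup.iff_card.mp P.isPGroup'
        have h8 : (Nat.card (P : Subgroup G)).Coprime (Nat.card A) := by
          rw [hi]
          exact Nat.Coprime.pow_left i ((Nat.Prime.coprime_iff_not_dvd hrp).mpr hAr)
        have h9 : orderOf b = 1 := Nat.eq_one_of_dvd_coprimes h8 h6 h7
        have h10 : b = 1 := orderOf_eq_one_iff.mp h9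
        rw [← hab, h10, mul_one]
        exact Subgroup.mem_inf.mpr ⟨ha, haC⟩
      have hDφ : ∀ x ∈ D, φ x ∈ D := by
        intro x hx
        rw [hDdef] at hx ⊢
        obtain ⟨hx1, hx2⟩ := Subgroup.mem_inf.mp hx
        refine Subgroup.mem_inf.mpr ⟨hPφ x hx1, ?_⟩
        rw [Subgroup.mem_centralizer_iff] at hx2 ⊢
        intro y hy
        obtain ⟨y', hy', rfl⟩ := exists_preimage_mem hinj _ hAφ y hy
        rw [← map_mul, ← map_mul, hx2 y' hy']
      have hDp : IsPGroup r D := P.isPGroup'.to_le (hDdef ▸ inf_le_left)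
      have hzD : z ∈ D := by
        rw [hDdef]
        refine Subgroup.mem_inf.mpr ⟨hzP, ?_⟩
        rw [Subgroup.mem_centralizer_iff]
        intro u hu
        have h1 := hzA u hu
        calc u * z = z * u * z⁻¹ * z := by rw [h1]
          _ = z * u := by group
      have hD1 := hB D hDn hDp hDφ
      rw [hD1, Subgroup.mem_bot] at hzD
      exact absurd hzD hz1

end Cfsg.Agent.Lib.Helper1
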