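import Mathlib
import Cfsg.Agent.Lib.Helper1.FpfMain

set_option autoImplicit false
set_option linter.style.haveILetI false

/-!
Thompson: a finite group with a nilpotent maximal subgroup of odd order is solvable.
-/

namespace Cfsg.Agent.Lib.Helper1

open Cfsg

universe u

theorem normalizer_le_normalizer_inf_centralizer {G : Type u} [Group G] [Finite G]
    (P : Subgroup G) : Subgroup.normalizer (P : Set G) ≤
      Subgroup.normalizer ((P ⊓ Subgroup.centralizer (P : Set G) : Subgroup G) : Set G) := by
  intro g hg
  apply mem_normalizer_of_conj_mem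
  intro x hx
  obtain ⟨hx1, hx2⟩ := Subgroup.mem_inf.mp hx
  refine Subgroup.mem_inf.mpr ⟨(Subgroup.mem_normalizer_iff.mp hg x).mp hx1, ?_⟩
  rw [Subgroup.mem_centralizer_iff] at hx2 ⊢
  intro y hy
  have hy' : g⁻¹ * y * g ∈ P := by
    have := (Subgroup.mem_normalizer_iff.mp (Subgroup.inv_mem _ hg) y).mp hy
    rwa [inv_inv] at this
  have h1 := hx2 _ hy'
  calc y * (g * x * g⁻¹) = g * ((g⁻¹ * y * g) * x) * g⁻¹ := by group
    _ = g * (x * (g⁻¹ * y * g)) * g⁻¹ := by rw [h1]
    _ = g * x * g⁻¹ * y := by group

set_option maxHeartbeats 1600000 in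
theorem solvable_of_nilpotent_coatom_odd :
    ∀ (n : ℕ) (G : Type u) [Group G] [Finite G], Nat.card G ≤ n →
      ∀ (M : Subgroup G), IsCoatom M → Group.IsNilpotent M → Odd (Nat.card M) →
        Group.IsSolvable G := by
  intro n
  induction n using Nat.strong_induction_on with
  | _ n IH =>
    intro G _ _ hn M hmax hnil hodd
    haveI := hnil
    haveI hMsolv : Group.IsSolvable M := IsNilpotent.to_isSolvable
    have hsolvable_of : ∀ (N : Subgroup G) [N.Normal], Group.IsSolvable N →
        Group.IsSolvable (G ⧸ N) → Group.IsSolvable G := by
      intro N _ h1 h2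
      exact Group.isSolvable_of_ker_le_range N.subtype (QuotientGroup.mk' N)
        (by rw [QuotientGroup.ker_mk', Subgroup.range_subtype])
    by_cases hcore : M.normalCore = ⊥
    · -- core-free case
      have hL1 : ∀ X : Subgroup G, X ≤ M → X ≠ ⊥ → M ≤ Subgroup.normalizer (X : Set G) →
          Subgroup.normalizer (X : Set G) ≤ M := by
        intro X hXM hX1 hMN
        rcases (hmax.le_iff).mp hMN with h | h
        · exfalso
          apply hX1
          haveI : X.Normal := Subgroup.normalizer_eq_top_iff.mp h
          have h1 : X ≤ M.normalCore := Subgroup.normal_le_normalCore.mpr hXM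
          rw [hcore] at h1
          exact le_bot_iff.mp h1
        · exact h.le
      have hC : ∀ p : ℕ, p.Prime → p ∣ Nat.card M →
          (∃ Kp : Subgroup G, Kp.Normal ∧ (Nat.card Kp).Coprime p ∧ ∃ k, Kp.index = p ^ k) ∧
          (Nat.card G).factorization p = (Nat.card M).factorization p := by
        intro p hp hpdvd
        haveI : Fact p.Prime := ⟨hp⟩
        have hp2 : p ≠ 2 := by
          rintro rfl
          exact (Nat.not_even_iff_odd.mpr hodd) (even_iff_two_dvd.mpr hpdvd)
        obtain ⟨PM⟩ : Nonempty (Sylow p M) := inferInstance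
        have hsylM : ∀ (q : ℕ) (_ : Fact q.Prime) (S : Sylow q M), (S : Subgroup M).Normal :=
          (Group.isNilpotent_of_finite_tfae.out 0 3).mp hnil
        have hPMn : (PM : Subgroup M).Normal := hsylM p inferInstance PM
        obtain ⟨P, hPdef⟩ : ∃ P : Subgroup G, P = (PM : Subgroup M).map M.subtype := ⟨_, rfl⟩
        have hPM : P ≤ M := hPdef ▸ Subgroup.map_subtype_le _
        have hPp : IsPGroup p P := hPdef ▸ PM.isPGroup'.map _
        have hP1 : P ≠ ⊥ := by
          rw [hPdef]
          intro h
          exact PM.ne_bot_of_dvd_card hpdvd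
            ((Subgroup.map_eq_bot_iff_of_injective _ M.subtype_injective).mp h)
        have hMNP : M ≤ Subgroup.normalizer (P : Set G) := by
          have h1 := Subgroup.le_normalizer_map (H := (PM : Subgroup M)) M.subtype
          rw [Subgroup.normalizer_eq_top_iff.mpr hPMn, ← MonoidHom.range_eq_map,
            Subgroup.range_subtype, ← hPdef] at h1
          exact h1
        have hNPM := hL1 P hPM hP1 hMNP
        obtain ⟨Pst, hPst⟩ := hPp.exists_le_sylow
        have hPeq : P = (Pst : Subgroup G) := by
          by_contra hne
          have hlt : P < (Pst : Subgroup G) := lt_of_le_of_ne hPst hne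
          obtain ⟨x, hxPst, hxN, hxP⟩ :=
            Cfsg.Agent.Lib.Helper18.exists_mem_normalizer_not_mem Pst.isPGroup' hlt
          have hxM : x ∈ M := hNPM hxN
          apply hxP
          have hT : IsPGroup p (((Pst : Subgroup G) ⊓ M).subgroupOf M) :=
            (Pst.isPGroup'.to_le inf_le_left).comap_subtype
          have hle : (PM : Subgroup M) ≤ ((Pst : Subgroup G) ⊓ M).subgroupOf M := by
            intro y hy
            rw [Subgroup.mem_subgroupOf]
            have hyP : (y : G) ∈ P := by
              rw [hPdef]
              exact ⟨y, hy, rfl⟩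
            exact Subgroup.mem_inf.mpr ⟨hPst hyP, y.2⟩
          have heq := PM.is_maximal' hT hle
          have hx' : (⟨x, hxM⟩ : M) ∈ ((Pst : Subgroup G) ⊓ M).subgroupOf M := by
            rw [Subgroup.mem_subgroupOf]
            exact Subgroup.mem_inf.mpr ⟨hxPst, hxM⟩
          rw [heq] at hx'
          rw [hPdef]
          exact ⟨⟨x, hxM⟩, hx', rfl⟩
        have hFM : FrobS p M := (frobCond_subtype_iff M).mp (frobCond_of_isNilpotent p)
        have hJM : Subgroup.normalizer
            ((thompsonSubgroupOf p (Pst : Subgroup G) : Subgroup G) : Set G) ≤ M := by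
          rw [← hPeq]
          apply hL1
          · exact (Cfsg.Agent.Lib.Helper27.thompsonSubgroupOf_le p P).trans hPM
          · exact thompsonSubgroupOf_ne_bot hPp hP1
          · exact hMNP.trans (normalizer_le_normalizer_thompsonSubgroupOf p P)
        have hZM : Subgroup.centralizer (((Pst : Subgroup G) ⊓
            Subgroup.centralizer ((Pst : Subgroup G) : Set G) : Subgroup G) : Set G) ≤ M := by
          rw [← hPeq]
          refine (Subgroup.centralizer_le_normalizer _).trans ?_
          apply hL1
          · exact inf_le_left.trans hPM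
          · exact inf_centralizer_ne_bot hPp hP1
          · exact hMNP.trans (normalizer_le_normalizer_inf_centralizer P)
        have hF : FrobCond p G :=
          thompson_all p hp2 (Nat.card G) G le_rfl Pst ⟨hFM.mono hJM, hFM.mono hZM⟩
        refine ⟨frobCond_iff_npc.mp hF, ?_⟩
        apply le_antisymm
        · have h1 : Nat.card (Pst : Subgroup G) ∣ Nat.card M :=
            Subgroup.card_dvd_of_le (hPeq ▸ hPM)
          rw [Pst.card_eq_multiplicity] at h1
          exact (hp.pow_dvd_iff_le_factorization Nat.card_pos.ne').mp h1
        · exact (Nat.factorization_le_iff_dvd Nat.card_pos.ne' Nat.card_pos.ne').mpr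
            (Subgroup.card_subgroup_dvd_card M) p
      -- membership in the p-complements
      have hKp : ∀ p : ℕ, p.Prime → p ∣ Nat.card M → ∀ g h : G,
          (orderOf g).Coprime p → (orderOf h).Coprime p → (orderOf (g * h)).Coprime p := by
        intro p hp hpdvd g h hg hh
        obtain ⟨⟨Kp, hKpn, hKpc, k, hKpi⟩, -⟩ := hC p hp hpdvd
        haveI := hKpn
        have hmem : ∀ x : G, (orderOf x).Coprime p → x ∈ Kp := by
          intro x hx
          apply mem_of_pow_mem_of_coprime (Subgroup.pow_index_mem Kp x)
          rw [hKpi]
          exact Nat.Coprime.pow_right k hx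
        have h1 : g * h ∈ Kp := Kp.mul_mem (hmem g hg) (hmem h hh)
        exact Nat.Coprime.coprime_dvd_left (Subgroup.orderOf_dvd_natCard Kp h1) hKpc
      have hcop_iff : ∀ g : G, (orderOf g).Coprime (Nat.card M) ↔
          ∀ p : ℕ, p.Prime → p ∣ Nat.card M → (orderOf g).Coprime p := by
        intro g
        constructor
        · intro h p _ hpdvd
          exact Nat.Coprime.coprime_dvd_right hpdvd h
        · intro h
          apply Nat.Coprime.symm
          apply Nat.coprime_of_dvd
          intro k hk hkM hkg
          exact hk.one_lt.ne' (Nat.Coprime.eq_one_of_dvd (h k hk hkM).symm hkg)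
      obtain ⟨K, hKmem⟩ : ∃ K : Subgroup G, ∀ g, g ∈ K ↔ (orderOf g).Coprime (Nat.card M) := by
        refine ⟨{ carrier := {g | (orderOf g).Coprime (Nat.card M)}
                  one_mem' := ?_
                  mul_mem' := ?_
                  inv_mem' := ?_ }, fun g => Iff.rfl⟩
        · intro a b ha hb
          have ha' : (orderOf a).Coprime (Nat.card M) := ha
          have hb' : (orderOf b).Coprime (Nat.card M) := hb
          show (orderOf (a * b)).Coprime (Nat.card M)
          rw [hcop_iff] at ha' hb' ⊢
          intro p hp hpdvd
          exact hKp p hp hpdvd a b (ha' p hp hpdvd) (hb' p hp hpdvd)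
        · show (orderOf (1 : G)).Coprime (Nat.card M)
          rw [orderOf_one]
          exact Nat.coprime_one_left _
        · intro a ha
          show (orderOf a⁻¹).Coprime (Nat.card M)
          rw [orderOf_inv]
          exact ha
      haveI hKn : K.Normal := by
        constructor
        intro x hx g
        rw [hKmem] at hx ⊢
        have : orderOf (g * x * g⁻¹) = orderOf x := (MulAut.conj g).orderOf_eq x
        rw [this]
        exact hx
      have hKM : K ⊓ M = ⊥ := by
        rw [eq_bot_iff]
        intro g hg
        obtain ⟨hg1, hg2⟩ := Subgroup.mem_inf.mp hg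
        rw [hKmem] at hg1
        have h1 : orderOf g ∣ Nat.card M := Subgroup.orderOf_dvd_natCard M hg2
        have h2 : orderOf g = 1 := Nat.eq_one_of_dvd_coprimes hg1 dvd_rfl h1
        exact Subgroup.mem_bot.mpr (orderOf_eq_one_iff.mp h2)
      have hKMtop : K ⊔ M = ⊤ := by
        rcases (hmax.le_iff).mp (le_sup_right : M ≤ K ⊔ M) with h | h
        · exact h
        · exfalso
          have hKleM : K ≤ M := by
            rw [← h]
            exact le_sup_left
          have hKbot : K = ⊥ := by
            rw [← hKM]
            exact (inf_eq_left.mpr hKleM).symm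
          apply hmax.1
          rw [← Subgroup.card_eq_iff_eq_top]
          apply (Nat.eq_of_factorization_eq Nat.card_pos.ne' Nat.card_pos.ne' ?_).symm
          intro p
          by_cases hp : p.Prime
          · by_cases hpdvd : p ∣ Nat.card M
            · exact (hC p hp hpdvd).2
            · rw [Nat.factorization_eq_zero_of_not_dvd hpdvd]
              apply Nat.factorization_eq_zero_of_not_dvd
              intro hpG
              haveI : Fact p.Prime := ⟨hp⟩
              obtain ⟨g, hg⟩ := exists_prime_orderOf_dvd_card' (G := G) p hpG
              have hgK : g ∈ K := by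
                rw [hKmem, hg]
                exact (Nat.Prime.coprime_iff_not_dvd hp).mpr hpdvd
              rw [hKbot, Subgroup.mem_bot] at hgK
              rw [hgK, orderOf_one] at hg
              exact hp.one_lt.ne hg
          · rw [Nat.factorization_eq_zero_of_not_prime _ hp,
              Nat.factorization_eq_zero_of_not_prime _ hp]
      -- `G / K` is an image of `M`
      have hGK : Group.IsSolvable (G ⧸ K) := by
        have hsurj : Function.Surjective ((QuotientGroup.mk' K).comp M.subtype) := by
          intro y
          obtain ⟨g, rfl⟩ := QuotientGroup.mk'_surjective K y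
          have hg : g ∈ K ⊔ M := hKMtop ▸ Subgroup.mem_top g
          obtain ⟨k, hk, m, hm, rfl⟩ := Subgroup.mem_sup_of_normal_left.mp hg
          refine ⟨⟨m, hm⟩, ?_⟩
          show (QuotientGroup.mk' K) m = (QuotientGroup.mk' K) (k * m)
          have hk1 : (QuotientGroup.mk' K) k = 1 := (QuotientGroup.eq_one_iff k).mpr hk
          rw [map_mul, hk1, one_mul]
        exact Group.isSolvable_of_surjective hsurj
      -- `K` is a `q`-group
      have hKsolv : Group.IsSolvable K := by
        by_cases hK1 : K = ⊥
        · apply Group.isSolvable_of_comm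
          intro a b
          have hK1' : ∀ x ∈ K, x = 1 := by
            intro x hx
            rw [hK1, Subgroup.mem_bot] at hx
            exact hx
          have ha : (a : G) = 1 := hK1' _ a.2
          have hb : (b : G) = 1 := hK1' _ b.2
          apply Subtype.ext
          rw [Subgroup.coe_mul, Subgroup.coe_mul, ha, hb]
        have hcopMK : (Nat.card M).Coprime (Nat.card K) := by
          apply Nat.coprime_of_dvd
          intro k hk hkM hkK
          haveI : Fact k.Prime := ⟨hk⟩
          obtain ⟨g, hg⟩ := exists_prime_orderOf_dvd_card' (G := K) k hkK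
          have h1 := (hKmem g).mp g.2
          rw [Subgroup.orderOf_coe, hg] at h1
          exact hk.one_lt.ne' (Nat.Coprime.eq_one_of_dvd h1 hkM)
        obtain ⟨q, hqdef⟩ : ∃ q : ℕ, q = (Nat.card K).minFac := ⟨_, rfl⟩
        have hKcard : Nat.card K ≠ 1 := fun h => hK1 (Subgroup.eq_bot_of_card_eq K h)
        have hq : q.Prime := hqdef ▸ Nat.minFac_prime hKcard
        haveI : Fact q.Prime := ⟨hq⟩
        have hqdvd : q ∣ Nat.card K := hqdef ▸ Nat.minFac_dvd _
        have hMK : M ≤ Subgroup.normalizer (K : Set G) := by
          rw [Subgroup.normalizer_eq_top]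
          exact le_top
        obtain ⟨Q, hQ⟩ := exists_invariant_sylow M K hMK hcopMK (Or.inl hMsolv) q
        obtain ⟨Q', hQ'def⟩ : ∃ Q' : Subgroup G, Q' = (Q : Subgroup K).map K.subtype := ⟨_, rfl⟩
        rw [← hQ'def] at hQ
        have hQ'K : Q' ≤ K := hQ'def ▸ Subgroup.map_subtype_le _
        have hQ'1 : Q' ≠ ⊥ := by
          rw [hQ'def]
          intro h
          exact Q.ne_bot_of_dvd_card hqdvd
            ((Subgroup.map_eq_bot_iff_of_injective _ K.subtype_injective).mp h)
        have hQ'top : Q' ⊔ M = ⊤ := by
          rcases (hmax.le_iff).mp (le_sup_right : M ≤ Q' ⊔ M) with h | h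
          · exact h
          · exfalso
            apply hQ'1
            have h1 : Q' ≤ M := by
              rw [← h]
              exact le_sup_left
            rw [eq_bot_iff, ← hKM]
            exact le_inf hQ'K h1
        have hKQ' : K ≤ Q' := by
          intro x hx
          have hx' : x ∈ ((Q' ⊔ M : Subgroup G) : Set G) := by
            rw [hQ'top]
            exact Subgroup.mem_top x
          rw [Subgroup.coe_mul_of_right_le_normalizer_left Q' M hQ] at hx'
          obtain ⟨a, ha, m, hm, rfl⟩ := hx'
          have hmK : m ∈ K := by
            have : m = a⁻¹ * (a * m) := by group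
            rw [this]
            exact K.mul_mem (K.inv_mem (hQ'K ha)) hx
          have hm1 : m ∈ K ⊓ M := Subgroup.mem_inf.mpr ⟨hmK, hm⟩
          rw [hKM, Subgroup.mem_bot] at hm1
          show a * m ∈ Q'
          rw [hm1, mul_one]
          exact ha
        have hKeq : K = Q' := le_antisymm hKQ' hQ'K
        have hKq : IsPGroup q K := by
          have h1 : IsPGroup q Q' := hQ'def ▸ Q.isPGroup'.map _
          rw [hKeq]
          exact h1
        haveI h2 : Group.IsNilpotent K := hKq.isNilpotent
        exact IsNilpotent.to_isSolvable
      exact hsolvable_of K hKsolv hGK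
    · -- the core is nontrivial: pass to the quotient
      obtain ⟨N, hNdef⟩ : ∃ N : Subgroup G, N = M.normalCore := ⟨_, rfl⟩
      haveI hNn : N.Normal := hNdef ▸ Subgroup.normalCore_normal M
      have hNM : N ≤ M := hNdef ▸ Subgroup.normalCore_le M
      have hN1 : N ≠ ⊥ := hNdef ▸ hcore
      have hNsolv : Group.IsSolvable N := isSolvable_of_le hNM
      obtain ⟨π, hπdef⟩ : ∃ π : G →* G ⧸ N, π = QuotientGroup.mk' N := ⟨_, rfl⟩
      have hπs : Function.Surjective π := hπdef ▸ QuotientGroup.mk'_surjective N
      have hcomap : (M.map π).comap π = M := by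
        rw [hπdef, QuotientGroup.comap_map_mk', sup_eq_right.mpr hNM]
      have hM'max : IsCoatom (M.map π) := by
        constructor
        · intro h
          apply hmax.1
          rw [← hcomap, h, Subgroup.comap_top]
        · intro X hX
          have h1 : M < X.comap π := by
            rw [← hcomap]
            refine lt_of_le_of_ne (Subgroup.comap_mono hX.le) ?_
            intro h
            apply hX.ne
            rw [← Subgroup.map_comap_eq_self_of_surjective hπs X, ← h,
              Subgroup.map_comap_eq_self_of_surjective hπs]
          have h2 := hmax.2 _ h1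
          rw [← Subgroup.map_comap_eq_self_of_surjective hπs X, h2,
            Subgroup.map_top_of_surjective π hπs]
      have hM'nil : Group.IsNilpotent (M.map π) :=
        Group.nilpotent_of_surjective (π.subgroupMap M) (π.subgroupMap_surjective M)
      have hM'odd : Odd (Nat.card (M.map π)) :=
        Odd.of_dvd_nat hodd (Subgroup.card_map_dvd M π)
      have hlt : Nat.card (G ⧸ N) < Nat.card G := by
        have h1 : Nat.card G = Nat.card (G ⧸ N) * Nat.card N :=
          Subgroup.card_eq_card_quotient_mul_card_subgroup N
        have h2 : 1 < Nat.card N := by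
          haveI : Nontrivial N := (Subgroup.nontrivial_iff_ne_bot _).mpr hN1
          exact Finite.one_lt_card
        have h3 : 0 < Nat.card (G ⧸ N) := Nat.card_pos
        nlinarith
      have hQsolv : Group.IsSolvable (G ⧸ N) :=
        IH (Nat.card (G ⧸ N)) (by omega) (G ⧸ N) le_rfl (M.map π) hM'max hM'nil hM'odd
      exact hsolvable_of N hNsolv hQsolv

end Cfsg.Agent.Lib.Helper1
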