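import Mathlib
import Cfsg.Agent.S3079
import Cfsg.Agent.Lib.Helper6.ZJMap
import Cfsg.Agent.Lib.Helper6.PConstr
import Cfsg.Agent.Lib.Helper14.SylowAux
import Cfsg.Agent.Lib.Helper1.Cores

set_option autoImplicit false

/-!
Local control of strong fusion by the normalizer of the ZJ-type subgroup of a strongly closed
subgroup, in a `p`-constrained group that is `p`-stable in the normalizer form.
-/

namespace Cfsg.Agent.Lib.Helper1.SCLocal

open Cfsg
open Cfsg.Agent.Lib Cfsg.Agent.Lib.Helper6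
open scoped commutatorElement Pointwise

universe u

section gen

variable {X : Type u} [Group X]

theorem eq_one_of_pgroup_coprime {p : ℕ} (O R : Subgroup X) (hO : (Nat.card O).Coprime p)
    (hR : IsPGroup p R) (z : X) (hzR : z ∈ R) (hzO : z ∈ O) : z = 1 := by
  obtain ⟨k, hk⟩ := hR ⟨z, hzR⟩
  have hk' : z ^ (p ^ k) = 1 := by
    have := congrArg Subtype.val hk
    simpa using this
  have h1 : orderOf z ∣ p ^ k := orderOf_dvd_of_pow_eq_one hk'
  have h2 : orderOf z ∣ Nat.card O := by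
    have := orderOf_dvd_natCard (⟨z, hzO⟩ : O)
    rwa [Subgroup.orderOf_mk] at this
  have h3 : orderOf z = 1 :=
    Nat.eq_one_of_dvd_coprimes (Nat.Coprime.pow_right k hO) h2 h1
  exact orderOf_eq_one_iff.mp h3

theorem injOn_mk_of_pgroup {p : ℕ} (O R : Subgroup X) [O.Normal] (hO : (Nat.card O).Coprime p)
    (hR : IsPGroup p R) : Set.InjOn (QuotientGroup.mk' O) (R : Set X) := by
  intro x hx y hy hxy
  have h1 : x⁻¹ * y ∈ O := QuotientGroup.eq.mp hxy
  have h2 := eq_one_of_pgroup_coprime O R hO hR _ (R.mul_mem (R.inv_mem hx) hy) h1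
  exact inv_mul_eq_one.mp h2

/-- Normalizer `p`-stability passes to the quotient by a normal `p'`-subgroup, in the form
needed for the ZJ-theorem. -/
theorem hst_quotient [Finite X] {p : ℕ} [Fact p.Prime] (hst : Cfsg.IsNormalizerPStable p X)
    (O : Subgroup X) [hOn : O.Normal] (hO : (Nat.card O).Coprime p)
    (V' : Subgroup (X ⧸ O)) [hV'n : V'.Normal] (hV' : IsPGroup p V') (a' : X ⧸ O)
    (hq : ⁅⁅V', Subgroup.zpowers a'⁆, Subgroup.zpowers a'⁆ = ⊥) :
    (QuotientGroup.mk a' : (X ⧸ O) ⧸ Subgroup.centralizer (V' : Set (X ⧸ O))) ∈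
      pCore p ((X ⧸ O) ⧸ Subgroup.centralizer (V' : Set (X ⧸ O))) := by
  obtain ⟨π, hπ⟩ : ∃ π : X →* X ⧸ O, π = QuotientGroup.mk' O := ⟨_, rfl⟩
  have hsurj : Function.Surjective π := hπ ▸ QuotientGroup.mk'_surjective O
  have hker : ∀ x, π x = 1 ↔ x ∈ O := by
    intro x; rw [hπ]; exact QuotientGroup.eq_one_iff x
  obtain ⟨PX⟩ : Nonempty (Sylow p X) := inferInstance
  obtain ⟨M, hM⟩ : ∃ M, M = V'.comap π := ⟨_, rfl⟩
  have hMn : M.Normal := by rw [hM]; infer_instance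
  obtain ⟨V, hV⟩ : ∃ V, V = (PX : Subgroup X) ⊓ M := ⟨_, rfl⟩
  have hVp : IsPGroup p V := PX.isPGroup'.to_le (hV ▸ inf_le_left)
  have hVmap : V.map π = V' := by
    apply le_antisymm
    · rintro _ ⟨v, hv, rfl⟩
      rw [hV] at hv
      have := (Subgroup.mem_inf.mp hv).2
      rw [hM] at this
      exact this
    · intro y hy
      have h1 : V' ≤ (PX.mapSurjective hsurj : Subgroup (X ⧸ O)) := hV'.le_sylow_of_normal _
      have h2 := h1 hy
      rw [← SetLike.mem_coe, Sylow.coe_mapSurjective] at h2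
      obtain ⟨x, hx, rfl⟩ := h2
      exact ⟨x, hV ▸ Subgroup.mem_inf.mpr ⟨hx, hM ▸ hy⟩, rfl⟩
  have hfr : M ⊔ Subgroup.normalizer (V : Set X) = ⊤ := by
    rw [hV]; exact frattini_inf_normal PX M
  have hlift : ∀ y : X ⧸ O, ∃ x ∈ Subgroup.normalizer (V : Set X), π x = y := by
    intro y
    obtain ⟨x, rfl⟩ := hsurj y
    have hx : x ∈ ((M ⊔ Subgroup.normalizer (V : Set X) : Subgroup X) : Set X) := by
      rw [hfr]; trivial
    rw [Subgroup.normal_mul] at hx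
    obtain ⟨m, hm, n, hn, rfl⟩ := Set.mem_mul.mp hx
    have hm' : π m ∈ V.map π := by
      rw [hVmap]; rw [hM] at hm; exact hm
    obtain ⟨v, hv, hvm⟩ := hm'
    refine ⟨v * n, Subgroup.mul_mem _ (Subgroup.le_normalizer hv) hn, ?_⟩
    rw [map_mul, map_mul]
    congr 1
  obtain ⟨a₁, ha₁, ha₁a⟩ := hlift a'
  have hquad : ⁅⁅V, Subgroup.zpowers a₁⁆, Subgroup.zpowers a₁⁆ = ⊥ := by
    have hzN : Subgroup.zpowers a₁ ≤ Subgroup.normalizer (V : Set X) :=
      Subgroup.zpowers_le.mpr ha₁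
    have h1 : ⁅V, Subgroup.zpowers a₁⁆ ≤ V := by
      rw [Subgroup.commutator_comm]
      exact Helper18.commutator_le_of_le_normalizer hzN
    have h2 : ⁅⁅V, Subgroup.zpowers a₁⁆, Subgroup.zpowers a₁⁆ ≤ V :=
      (Subgroup.commutator_mono h1 le_rfl).trans h1
    have h3 : (⁅⁅V, Subgroup.zpowers a₁⁆, Subgroup.zpowers a₁⁆).map π = ⊥ := by
      rw [Subgroup.map_commutator, Subgroup.map_commutator, hVmap, MonoidHom.map_zpowers,
        ha₁a, hq]
    rw [eq_bot_iff]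
    intro k hk
    have h4 : π k = 1 := by
      have : π k ∈ (⁅⁅V, Subgroup.zpowers a₁⁆, Subgroup.zpowers a₁⁆).map π :=
        Subgroup.mem_map_of_mem π hk
      rw [h3] at this
      exact Subgroup.mem_bot.mp this
    exact Subgroup.mem_bot.mpr
      (eq_one_of_pgroup_coprime O V hO hVp k (h2 hk) ((hker k).mp h4))
  have h5 := hst V hVp a₁ ha₁ hquad
  have hle : (Subgroup.centralizer (V : Set X)).subgroupOf (Subgroup.normalizer (V : Set X)) ≤
      (Subgroup.centralizer (V' : Set (X ⧸ O))).comap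
        (π.comp (Subgroup.normalizer (V : Set X)).subtype) := by
    intro c hc
    rw [Subgroup.mem_subgroupOf] at hc
    rw [Subgroup.mem_comap]
    show π (c : X) ∈ Subgroup.centralizer (V' : Set (X ⧸ O))
    rw [Subgroup.mem_centralizer_iff]
    intro y hy
    rw [← hVmap] at hy
    obtain ⟨v, hv, rfl⟩ := hy
    have := Subgroup.mem_centralizer_iff.mp hc v hv
    rw [← map_mul, ← map_mul, this]
  let f : ↥(Subgroup.normalizer (V : Set X)) ⧸
      (Subgroup.centralizer (V : Set X)).subgroupOf (Subgroup.normalizer (V : Set X)) →*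
      (X ⧸ O) ⧸ Subgroup.centralizer (V' : Set (X ⧸ O)) :=
    QuotientGroup.map _ _ (π.comp (Subgroup.normalizer (V : Set X)).subtype) hle
  have hf : Function.Surjective f := by
    intro y
    obtain ⟨y₀, rfl⟩ := QuotientGroup.mk_surjective y
    obtain ⟨x, hx, rfl⟩ := hlift y₀
    exact ⟨QuotientGroup.mk ⟨x, hx⟩, rfl⟩
  have h6 : (pCore p (↥(Subgroup.normalizer (V : Set X)) ⧸
      (Subgroup.centralizer (V : Set X)).subgroupOf (Subgroup.normalizer (V : Set X)))).map f ≤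
      pCore p ((X ⧸ O) ⧸ Subgroup.centralizer (V' : Set (X ⧸ O))) :=
    Helper1.le_pCore p ((Helper1.pCore_normal p).map f hf) ((Helper1.pCore_isPGroup p).map f)
  have h7 : f (QuotientGroup.mk ⟨a₁, ha₁⟩) =
      (QuotientGroup.mk a' : (X ⧸ O) ⧸ Subgroup.centralizer (V' : Set (X ⧸ O))) := by
    rw [← ha₁a]; rfl
  rw [← h7]
  exact h6 ⟨_, h5, rfl⟩

/-- The image of a strongly closed subgroup modulo a normal `p'`-subgroup is strongly closed. -/
theorem stronglyClosed_quotient [Finite X] {p : ℕ} [Fact p.Prime] (P : Sylow p X)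
    (D : Subgroup X) (hD : Cfsg.IsStronglyClosed D (P : Subgroup X)) (O : Subgroup X)
    [hOn : O.Normal] :
    Cfsg.IsStronglyClosed (D.map (QuotientGroup.mk' O))
      ((P : Subgroup X).map (QuotientGroup.mk' O)) := by
  refine ⟨Subgroup.map_mono hD.1, ?_⟩
  rintro _ ⟨x, hx, rfl⟩ g' hg'
  obtain ⟨g, rfl⟩ := QuotientGroup.mk'_surjective O g'
  obtain ⟨y, hy, hyz⟩ := hg'
  have hyz' : (QuotientGroup.mk' O) y = (QuotientGroup.mk' O) (g * x * g⁻¹) := by
    rw [hyz, map_mul, map_mul, map_inv]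
  have hzy : y⁻¹ * (g * x * g⁻¹) ∈ O := QuotientGroup.eq.mp hyz'
  have hz : g * x * g⁻¹ ∈ (P : Subgroup X) ⊔ O := by
    have e : g * x * g⁻¹ = y * (y⁻¹ * (g * x * g⁻¹)) := by group
    rw [e]
    exact Subgroup.mul_mem_sup hy hzy
  have hQp : IsPGroup p (Subgroup.zpowers (g * x * g⁻¹)) := by
    have h1 : IsPGroup p (Subgroup.zpowers x) :=
      P.isPGroup'.to_le (Subgroup.zpowers_le.mpr (hD.1 hx))
    have h2 := h1.map (MulAut.conj g).toMonoidHom
    rw [MonoidHom.map_zpowers] at h2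
    exact h2
  have hidx : ¬ p ∣ (P : Subgroup X).relIndex ((P : Subgroup X) ⊔ O) := fun hdvd =>
    P.not_dvd_index (hdvd.trans (Subgroup.relIndex_dvd_index_of_le le_sup_left))
  obtain ⟨h, hh, hhQ⟩ := Helper14.exists_conj_mem_of_relIndex P.isPGroup' hidx hQp
    (Subgroup.zpowers_le.mpr hz)
  have hd := hhQ _ (Subgroup.mem_zpowers _)
  have hdD : h * (g * x * g⁻¹) * h⁻¹ ∈ D := by
    have e : h * (g * x * g⁻¹) * h⁻¹ = (h * g) * x * (h * g)⁻¹ := by group
    rw [e] at hd ⊢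
    exact hD.2 x hx (h * g) hd
  have hh' : h ∈ (((P : Subgroup X) ⊔ O : Subgroup X) : Set X) := hh
  rw [Subgroup.mul_normal] at hh'
  obtain ⟨t, ht, o, ho, rfl⟩ := Set.mem_mul.mp hh'
  have ho1 : (QuotientGroup.mk' O) o = 1 := (QuotientGroup.eq_one_iff o).mpr ho
  have hD2 : t⁻¹ * (t * o * (g * x * g⁻¹) * (t * o)⁻¹) * t ∈ D := by
    have h1 := hD.2 _ hdD t⁻¹
    rw [inv_inv] at h1
    apply h1
    exact Subgroup.mul_mem _ (Subgroup.mul_mem _ (Subgroup.inv_mem _ ht) hd) ht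
  refine ⟨_, hD2, ?_⟩
  simp only [map_mul, map_inv, ho1, mul_one]
  group

/-- The ZJ-theorem for strongly closed subgroups with the stability hypothesis in the form for
normal `p`-subgroups. -/
theorem sInf_famX_normal' [Finite X] {p : ℕ} [Fact p.Prime] (hp : p ≠ 2) (P : Sylow p X)
    (D : Subgroup X) (hD : Cfsg.IsStronglyClosed D (P : Subgroup X))
    (hst : ∀ (V : Subgroup X) [V.Normal], IsPGroup p V → ∀ a : X,
      IsPGroup p (Subgroup.zpowers a) → ⁅⁅V, Subgroup.zpowers a⁆, Subgroup.zpowers a⁆ = ⊥ →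
      (QuotientGroup.mk a : X ⧸ Subgroup.centralizer (V : Set X)) ∈
        pCore p (X ⧸ Subgroup.centralizer (V : Set X)))
    (hc : Subgroup.centralizer ((Cfsg.pCore p X : Subgroup X) : Set X) ≤ Cfsg.pCore p X)
    (e : ℕ) : (sInf (famX e D)).Normal := by
  obtain ⟨F, hF⟩ : ∃ F : Subgroup X → Set (Subgroup X),
      F = fun R => {A | R ≤ (P : Subgroup X) ∧ A ∈ famX e (R ⊓ D)} := ⟨_, rfl⟩
  have hPD : (P : Subgroup X) ⊓ D = D := inf_eq_right.mpr hD.1
  have hFP : F (P : Subgroup X) = famX e D := by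
    rw [hF]
    ext A
    show (P : Subgroup X) ≤ P ∧ A ∈ famX e ((P : Subgroup X) ⊓ D) ↔ A ∈ famX e D
    rw [hPD]
    exact ⟨fun h => h.2, fun h => ⟨le_rfl, h⟩⟩
  rw [← hFP]
  apply Cfsg.Agent.S3079.zjD_normal D F
  · intro R A h
    rw [hF] at h
    exact famX_comm e _ A h.2
  · intro R A h
    rw [hF] at h
    exact (famX_le e _ A h.2).trans inf_le_left
  · intro R A g h hg
    rw [hF] at h ⊢
    refine ⟨h.1, ?_⟩
    have h1 := famX_aut e (MulAut.conj g) (R ⊓ D) A h.2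
    have hg' : g ∈ Subgroup.normalizer ((R ⊓ D : Subgroup X) : Set X) := by
      apply mem_normalizer_of_conj_mem_sub (Subgroup.normalizer (R : Set X)) _ _ hg
      intro a ha x hx
      obtain ⟨hxR, hxD⟩ := Subgroup.mem_inf.mp hx
      have h2 : a * x * a⁻¹ ∈ R := (Subgroup.mem_normalizer_iff.mp ha x).mp hxR
      exact Subgroup.mem_inf.mpr ⟨h2, hD.2 x hxD a (h.1 h2)⟩
    rw [Helper18.map_conj_eq_of_mem_normalizer (R ⊓ D) hg'] at h1
    exact h1
  · intro R R₁ A hle h hA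
    rw [hF] at h ⊢
    have hAD : A ≤ D := (famX_le e _ A h.2).trans inf_le_right
    obtain ⟨h1, h2⟩ := famX_mono e (R ⊓ D) (R₁ ⊓ D) A (inf_le_inf_right D hle) h.2
      (le_inf hA hAD)
    exact ⟨⟨hle.trans h.1, h1⟩, fun A' hA' => ⟨h.1, h2 hA'.2⟩⟩
  · intro R B hR hBn hBR hBD A hA hBA hnot
    rw [hF] at hA ⊢
    obtain ⟨A', hA', h1, h2⟩ := famX_repl hp e (R ⊓ D) B (hR.to_le inf_le_left) hBn
      (le_inf hBR hBD) A hA.2 hBA hnot
    exact ⟨A', ⟨hA.1, hA'⟩, h1, h2⟩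
  · exact hst
  · exact hc
  · rw [hFP]
    exact famX_nonempty e D
  · intro B hBn hB
    refine ⟨fun x hx g => ?_⟩
    obtain ⟨hxB, hxD⟩ := Subgroup.mem_inf.mp hx
    have h1 : g * x * g⁻¹ ∈ B := hBn.conj_mem x hxB g
    have hBP : B ≤ P := hB.le_sylow_of_normal P
    exact Subgroup.mem_inf.mpr ⟨h1, hD.2 x hxD g (hBP h1)⟩
  · intro A hA
    rw [hFP] at hA
    exact famX_le e D A hA

/-- A `p`-constrained, normalizer-`p`-stable group is `O_{p'}` times the normalizer of the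
ZJ-type subgroup of a strongly closed subgroup. -/
theorem sup_normalizer_eq_top [Finite X] {p : ℕ} [Fact p.Prime] (hp : p ≠ 2) (P : Sylow p X)
    (D : Subgroup X) (hD : Cfsg.IsStronglyClosed D (P : Subgroup X))
    (hst : Cfsg.IsNormalizerPStable p X) (hc : Cfsg.IsPConstrained p X) (e : ℕ) :
    Cfsg.pPrimeCore p X ⊔ Subgroup.normalizer ((sInf (famX e D) : Subgroup X) : Set X) = ⊤ := by
  have hOc : (Nat.card (pPrimeCore p X)).Coprime p := Helper1.pPrimeCore_coprime p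
  have hcQ := isPConstrained_iff_quotient.mp hc
  have hsurj : Function.Surjective (QuotientGroup.mk' (pPrimeCore p X)) :=
    QuotientGroup.mk'_surjective _
  have hDQ := stronglyClosed_quotient P D hD (pPrimeCore p X)
  have hZbn : (sInf (famX e (D.map (QuotientGroup.mk' (pPrimeCore p X))))).Normal := by
    apply sInf_famX_normal' hp (P.mapSurjective hsurj) _ _ _ hcQ e
    · rw [Sylow.coe_mapSurjective]; exact hDQ
    · intro V hVn hV a _ hq
      exact hst_quotient hst _ hOc V hV a hq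
  obtain ⟨π, hπ⟩ : ∃ π : X →* X ⧸ pPrimeCore p X, π = QuotientGroup.mk' (pPrimeCore p X) :=
    ⟨_, rfl⟩
  rw [← hπ] at hZbn
  have hker : ∀ x, π x = 1 ↔ x ∈ pPrimeCore p X := by
    intro x; rw [hπ]; exact QuotientGroup.eq_one_iff x
  have hinjP : ∀ R : Subgroup X, IsPGroup p R → Set.InjOn π (R : Set X) := by
    intro R hR
    rw [hπ]
    exact injOn_mk_of_pgroup _ R hOc hR
  obtain ⟨Z, hZ⟩ : ∃ Z, Z = sInf (famX e D) := ⟨_, rfl⟩
  rw [← hZ]
  have hDp : IsPGroup p D := P.isPGroup'.to_le hD.1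
  have hZD : Z ≤ D := by
    obtain ⟨A₀, hA₀⟩ := famX_nonempty e D
    rw [hZ]
    exact (sInf_le hA₀).trans (famX_le e D A₀ hA₀)
  have hZp : IsPGroup p Z := hDp.to_le hZD
  have hmap : sInf (famX e (D.map π)) = Z.map π := by
    rw [hZ, map_sInf_famX_of_injOn e π D (hinjP D hDp)]
  rw [hmap] at hZbn
  obtain ⟨M, hM⟩ : ∃ M, M = (Z.map π).comap π := ⟨_, rfl⟩
  have hMn : M.Normal := by rw [hM]; infer_instance
  have hZM : Z ≤ M := by
    rw [hM]; exact Subgroup.le_comap_map π Z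
  have hMle : M ≤ pPrimeCore p X ⊔ Z := by
    intro m hm
    rw [hM] at hm
    obtain ⟨z, hz, hzm⟩ := Subgroup.mem_comap.mp hm
    have h1 : z⁻¹ * m ∈ pPrimeCore p X := by
      rw [← hker, map_mul, map_inv, hzm, inv_mul_cancel]
    have e : m = z * (z⁻¹ * m) := by group
    rw [e]
    exact Subgroup.mul_mem_sup hz h1 |> fun h => by rwa [sup_comm] at h
  have hSyl : Helper18.IsSylowIn p Z M := by
    refine ⟨hZM, hZp, ?_⟩
    intro R' hR' hle hR'M
    have h1 : R'.map π ≤ Z.map π := by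
      rintro _ ⟨r, hr, rfl⟩
      have := hR'M hr
      rw [hM] at this
      exact Subgroup.mem_comap.mp this
    have h2 : Nat.card R' ≤ Nat.card Z := by
      rw [← card_map_of_injOn_sub π R' (hinjP R' hR'), ← card_map_of_injOn_sub π Z (hinjP Z hZp)]
      exact Subgroup.card_le_of_le h1
    exact (Subgroup.eq_of_le_of_card_ge hle h2).symm
  rw [eq_top_iff]
  intro g _
  have h1 := hSyl.map_conj g
  have hMg : M.map (MulAut.conj g).toMonoidHom = M :=
    Helper18.map_conj_eq_of_mem_normalizer M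
      (by rw [Subgroup.normalizer_eq_top_iff.mpr hMn]; trivial)
  rw [hMg] at h1
  obtain ⟨c, hc, hceq⟩ := hSyl.exists_conj_eq h1
  have h2 : c⁻¹ * g ∈ Subgroup.normalizer (Z : Set X) := by
    apply Helper18.mem_normalizer_of_map_conj_eq
    rw [Helper18.map_conj_mul, hceq, ← Helper18.map_conj_mul,
      inv_mul_cancel, Helper18.map_conj_one]
  have hc' : c ∈ pPrimeCore p X ⊔ Subgroup.normalizer (Z : Set X) :=
    (sup_le_sup_left Subgroup.le_normalizer _) (hMle hc)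
  have e : g = c * (c⁻¹ * g) := by group
  rw [e]
  exact Subgroup.mul_mem _ hc' (Subgroup.mem_sup_right h2)

/-- If `X = O N_X(Z)` with `O` a normal `p'`-subgroup and the `p`-subgroup `T` normalizes `Z`,
then `N_X(Z)` controls strong fusion in `T`. -/
theorem ctl_of_factor [Finite X] {p : ℕ} [Fact p.Prime] (O : Subgroup X) [hOn : O.Normal]
    (hO : (Nat.card O).Coprime p) (T Z : Subgroup X) (hT : IsPGroup p T)
    (hTZ : T ≤ Subgroup.normalizer (Z : Set X))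
    (htop : O ⊔ Subgroup.normalizer (Z : Set X) = ⊤)
    (A : Set X) (hA : A ⊆ (T : Set X)) (h : X) (hh : ∀ a ∈ A, h * a * h⁻¹ ∈ T) :
    ∃ x ∈ Subgroup.normalizer (Z : Set X), ∀ a ∈ A, h * a * h⁻¹ = x * a * x⁻¹ := by
  have hpr : p.Prime := Fact.out
  obtain ⟨N, hN⟩ : ∃ N, N = Subgroup.normalizer (Z : Set X) := ⟨_, rfl⟩
  rw [← hN] at hTZ htop ⊢
  have hmem : h ∈ ((O ⊔ N : Subgroup X) : Set X) := by rw [htop]; trivial
  rw [Subgroup.normal_mul] at hmem
  obtain ⟨o, ho, n₀, hn₀, rfl⟩ := Set.mem_mul.mp hmem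
  obtain ⟨B, hB⟩ : ∃ B, B = (Subgroup.closure A).map (MulAut.conj n₀).toMonoidHom := ⟨_, rfl⟩
  have hclT : Subgroup.closure A ≤ T := (Subgroup.closure_le _).mpr hA
  have hBp : IsPGroup p B := hB ▸ (hT.to_le hclT).map _
  have hBmem : ∀ c ∈ Subgroup.closure A, n₀ * c * n₀⁻¹ ∈ B := by
    intro c hc
    rw [hB]
    exact ⟨c, hc, by simp⟩
  have hBrep : ∀ b ∈ B, ∃ c ∈ Subgroup.closure A, b = n₀ * c * n₀⁻¹ := by
    intro b hb
    rw [hB] at hb
    obtain ⟨c, hc, rfl⟩ := hb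
    exact ⟨c, hc, by simp⟩
  have hBN : B ≤ N := by
    intro b hb
    obtain ⟨c, hc, rfl⟩ := hBrep b hb
    exact N.mul_mem (N.mul_mem hn₀ (hTZ (hclT hc))) (N.inv_mem hn₀)
  have hclh : ∀ c ∈ Subgroup.closure A, (o * n₀) * c * (o * n₀)⁻¹ ∈ T := by
    have hle : Subgroup.closure A ≤ T.comap (MulAut.conj (o * n₀)).toMonoidHom := by
      rw [Subgroup.closure_le]
      intro a ha
      show (o * n₀) * a * (o * n₀)⁻¹ ∈ T
      exact hh a ha
    intro c hc
    exact hle hc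
  have hB'T : ∀ b ∈ B, o * b * o⁻¹ ∈ T := by
    intro b hb
    obtain ⟨c, hc, rfl⟩ := hBrep b hb
    have e : o * (n₀ * c * n₀⁻¹) * o⁻¹ = (o * n₀) * c * (o * n₀)⁻¹ := by group
    rw [e]; exact hclh c hc
  obtain ⟨Q, hQ⟩ : ∃ Q, Q = B.map (MulAut.conj o).toMonoidHom := ⟨_, rfl⟩
  have hQp : IsPGroup p Q := hQ ▸ hBp.map _
  have hQmem : ∀ b ∈ B, o * b * o⁻¹ ∈ Q := by
    intro b hb
    rw [hQ]
    exact ⟨b, hb, by simp⟩
  have hQrep : ∀ q ∈ Q, ∃ b ∈ B, q = o * b * o⁻¹ := by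
    intro q hq
    rw [hQ] at hq
    obtain ⟨b, hb, rfl⟩ := hq
    exact ⟨b, hb, by simp⟩
  have hQT : Q ≤ T := by
    intro q hq
    obtain ⟨b, hb, rfl⟩ := hQrep q hq
    exact hB'T b hb
  have hQR : Q ≤ (O ⊔ B) ⊓ N := by
    refine le_inf ?_ (hQT.trans hTZ)
    intro q hq
    obtain ⟨b, hb, rfl⟩ := hQrep q hq
    exact Subgroup.mul_mem _ (Subgroup.mul_mem _ (Subgroup.mem_sup_left ho)
      (Subgroup.mem_sup_right hb)) (Subgroup.inv_mem _ (Subgroup.mem_sup_left ho))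
  have hBR : B ≤ (O ⊔ B) ⊓ N := le_inf le_sup_right hBN
  have hidx : ¬ p ∣ B.relIndex ((O ⊔ B) ⊓ N) := by
    intro hdvd
    have h1 := Subgroup.relIndex_mul_relIndex ⊥ B ((O ⊔ B) ⊓ N) bot_le hBR
    rw [Subgroup.relIndex_bot_left, Subgroup.relIndex_bot_left] at h1
    have h2 : Nat.card ↥((O ⊔ B) ⊓ N) ∣ Nat.card ↥(B ⊔ O) :=
      Subgroup.card_dvd_of_le (inf_le_left.trans (le_of_eq (sup_comm O B)))
    have h3 : Nat.card ↥(B ⊔ O) ∣ Nat.card B * Nat.card O :=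
      Helper1.card_sup_dvd_mul_of_normal B O
    have h4 : Nat.card B * B.relIndex ((O ⊔ B) ⊓ N) ∣ Nat.card B * Nat.card O := by
      rw [h1]; exact h2.trans h3
    have h5 : B.relIndex ((O ⊔ B) ⊓ N) ∣ Nat.card O :=
      Nat.dvd_of_mul_dvd_mul_left Nat.card_pos h4
    have h6 := Nat.Coprime.eq_one_of_dvd hO.symm (hdvd.trans h5)
    exact hpr.one_lt.ne' h6
  obtain ⟨r, hr, hrQ⟩ := Helper14.exists_conj_mem_of_relIndex hBp hidx hQp hQR
  obtain ⟨hr1, hrN⟩ := Subgroup.mem_inf.mp hr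
  have hr1' : r ∈ ((B ⊔ O : Subgroup X) : Set X) := by
    rw [sup_comm]; exact hr1
  rw [Subgroup.mul_normal] at hr1'
  obtain ⟨b₂, hb₂, o₂, ho₂, rfl⟩ := Set.mem_mul.mp hr1'
  have ho₂N : o₂ ∈ N := by
    have e : o₂ = b₂⁻¹ * (b₂ * o₂) := by group
    rw [e]; exact N.mul_mem (N.inv_mem (hBN hb₂)) hrN
  have hu : ∀ b ∈ B, (o₂ * o) * b * (o₂ * o)⁻¹ ∈ B := by
    intro b hb
    have h1 := hrQ (o * b * o⁻¹) (hQmem b hb)
    have e : (o₂ * o) * b * (o₂ * o)⁻¹ =
        b₂⁻¹ * (b₂ * o₂ * (o * b * o⁻¹) * (b₂ * o₂)⁻¹) * b₂ := by group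
    rw [e]; exact B.mul_mem (B.mul_mem (B.inv_mem hb₂) h1) hb₂
  have hucent : ∀ b ∈ B, (o₂ * o) * b * (o₂ * o)⁻¹ = b := by
    intro b hb
    have h1 : (o₂ * o) * b * (o₂ * o)⁻¹ * b⁻¹ ∈ B := B.mul_mem (hu b hb) (B.inv_mem hb)
    have h2 : (o₂ * o) * b * (o₂ * o)⁻¹ * b⁻¹ ∈ O := by
      have e : (o₂ * o) * b * (o₂ * o)⁻¹ * b⁻¹ = (o₂ * o) * (b * (o₂ * o)⁻¹ * b⁻¹) := by group
      rw [e]
      exact O.mul_mem (O.mul_mem ho₂ ho) (hOn.conj_mem _ (O.inv_mem (O.mul_mem ho₂ ho)) b)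
    have h3 := eq_one_of_pgroup_coprime O B hO hBp _ h1 h2
    exact mul_inv_eq_one.mp h3
  refine ⟨o₂⁻¹ * n₀, N.mul_mem (N.inv_mem ho₂N) hn₀, ?_⟩
  intro a ha
  have h1 := hucent _ (hBmem a (Subgroup.subset_closure ha))
  calc o * n₀ * a * (o * n₀)⁻¹
      = o₂⁻¹ * ((o₂ * o) * (n₀ * a * n₀⁻¹) * (o₂ * o)⁻¹) * o₂ := by group
    _ = o₂⁻¹ * (n₀ * a * n₀⁻¹) * o₂ := by rw [h1]
    _ = o₂⁻¹ * n₀ * a * (o₂⁻¹ * n₀)⁻¹ := by group

/-- Local control: in a `p`-constrained, normalizer-`p`-stable group, the normalizer of the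
ZJ-type subgroup of a strongly closed subgroup controls strong fusion in a Sylow subgroup. -/
theorem local_ctl [Finite X] {p : ℕ} [Fact p.Prime] (hp : p ≠ 2) (P : Sylow p X)
    (D : Subgroup X) (hD : Cfsg.IsStronglyClosed D (P : Subgroup X))
    (hst : Cfsg.IsNormalizerPStable p X) (hc : Cfsg.IsPConstrained p X) (e : ℕ)
    (A : Set X) (hA : A ⊆ ((P : Subgroup X) : Set X)) (h : X)
    (hh : ∀ a ∈ A, h * a * h⁻¹ ∈ (P : Subgroup X)) :
    ∃ x ∈ Subgroup.normalizer ((sInf (famX e D) : Subgroup X) : Set X),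
      ∀ a ∈ A, h * a * h⁻¹ = x * a * x⁻¹ := by
  have htop := sup_normalizer_eq_top hp P D hD hst hc e
  have hPZ : (P : Subgroup X) ≤
      Subgroup.normalizer ((sInf (famX e D) : Subgroup X) : Set X) := by
    intro t ht
    apply Helper18.mem_normalizer_of_map_conj_eq
    have hinj : Set.InjOn (MulAut.conj t).toMonoidHom (D : Set X) :=
      (MulAut.conj t).injective.injOn
    rw [map_sInf_famX_of_injOn e _ D hinj]
    have htD : t ∈ Subgroup.normalizer (D : Set X) :=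
      mem_normalizer_of_conj_mem_sub (P : Subgroup X) D
        (fun a ha x hx => hD.2 x hx a
          (Subgroup.mul_mem _ (Subgroup.mul_mem _ ha (hD.1 hx)) (Subgroup.inv_mem _ ha))) ht
    rw [Helper18.map_conj_eq_of_mem_normalizer D htD]
  exact ctl_of_factor (pPrimeCore p X) (Helper1.pPrimeCore_coprime p) P _ P.isPGroup' hPZ htop
    A hA h hh

end gen

end Cfsg.Agent.Lib.Helper1.SCLocal
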