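import Mathlib
import Cfsg.Agent.Lib.Helper1.FrobPC

set_option autoImplicit false
set_option linter.style.haveILetI false

namespace Cfsg.Agent.Lib.Helper1

open scoped commutatorElement

universe u

section Stability

variable {G : Type u} [Group G]

/-- If `g` has order prime to `p`, normalises the `p`-subgroup `Q` of the nilpotent subgroup `H`,
and moves each element of `Q` to an `H`-conjugate, then `g` centralises `Q`. -/
theorem centralizes_of_conj_in_nilpotent {p : ℕ} (H : Subgroup G)
    (hH : Group.IsNilpotent H) (Q : Subgroup G) (hQH : Q ≤ H) (hQ : IsPGroup p Q) (g : G)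
    (hg : g ∈ Subgroup.normalizer (Q : Set G)) (hcop : (orderOf g).Coprime p)
    (hfus : ∀ x ∈ Q, ∃ u ∈ H, g * x * g⁻¹ = u * x * u⁻¹) :
    g ∈ Subgroup.centralizer (Q : Set G) := by
  obtain ⟨n, hn⟩ := (Subgroup.isNilpotent_iff_lowerCentralSeries H).mp hH
  have key : ∀ i : ℕ, i ≤ n → ∀ x ∈ Q, x ∈ H.lowerCentralSeries (n - i) → g * x = x * g := by
    intro i
    induction i with
    | zero =>
      intro _ x hx hmem
      rw [Nat.sub_zero, hn, Subgroup.mem_bot] at hmem
      rw [hmem, mul_one, one_mul]
    | succ i ih =>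
      intro hi x hx hmem
      obtain ⟨u, hu, hgx⟩ := hfus x hx
      obtain ⟨z, hzdef⟩ : ∃ z : G, z = u * x * u⁻¹ * x⁻¹ := ⟨_, rfl⟩
      have hzQ : z ∈ Q := by
        rw [hzdef, ← hgx]
        exact Q.mul_mem ((Subgroup.mem_normalizer_iff.mp hg x).mp hx) (Q.inv_mem hx)
      have hzmem : z ∈ H.lowerCentralSeries (n - i) := by
        have h1 : n - i = (n - (i + 1)) + 1 := by omega
        rw [h1, Subgroup.lowerCentralSeries_succ]
        have h2 : ⁅x, u⁆ ∈ ⁅H.lowerCentralSeries (n - (i + 1)), H⁆ :=
          Subgroup.commutator_mem_commutator hmem hu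
        have h3 := Subgroup.inv_mem _ h2
        rw [commutatorElement_inv] at h3
        rw [hzdef]
        exact h3
      have hgz : g * z = z * g := ih (by omega) z hzQ hzmem
      have hgx' : g * x * g⁻¹ = z * x := by
        rw [hgx, hzdef]
        group
      have hpow : ∀ k : ℕ, g ^ k * x * (g ^ k)⁻¹ = z ^ k * x := by
        intro k
        induction k with
        | zero => simp
        | succ k ihk =>
          have hc : Commute g (z ^ k) := (show Commute g z from hgz).pow_right k
          calc g ^ (k + 1) * x * (g ^ (k + 1))⁻¹ = g * (g ^ k * x * (g ^ k)⁻¹) * g⁻¹ := by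
                rw [pow_succ']; group
            _ = g * (z ^ k * x) * g⁻¹ := by rw [ihk]
            _ = (g * z ^ k) * x * g⁻¹ := by group
            _ = (z ^ k * g) * x * g⁻¹ := by rw [hc.eq]
            _ = z ^ k * (g * x * g⁻¹) := by group
            _ = z ^ k * (z * x) := by rw [hgx']
            _ = z ^ (k + 1) * x := by rw [pow_succ]; group
      have h4 := hpow (orderOf g)
      rw [pow_orderOf_eq_one, one_mul, inv_one, mul_one] at h4
      have hzm : z ^ orderOf g = 1 := by
        have h5 : z ^ orderOf g * x = 1 * x := by rw [one_mul]; exact h4.symm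
        exact mul_right_cancel h5
      obtain ⟨k, hk⟩ := hQ ⟨z, hzQ⟩
      have hzk : z ^ p ^ k = 1 := by
        have := congrArg Subtype.val hk
        simpa using this
      have hz1 : z = 1 := by
        have h5 : orderOf z ∣ orderOf g := orderOf_dvd_of_pow_eq_one hzm
        have h6 : orderOf z ∣ p ^ k := orderOf_dvd_of_pow_eq_one hzk
        have h7 : orderOf z = 1 :=
          Nat.eq_one_of_dvd_coprimes (Nat.Coprime.pow_right k hcop) h5 h6
        exact orderOf_eq_one_iff.mp h7
      rw [hz1, one_mul] at hgx'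
      calc g * x = (g * x * g⁻¹) * g := by group
        _ = x * g := by rw [hgx']
  rw [Subgroup.mem_centralizer_iff]
  intro x hx
  have h1 := key n le_rfl x hx (by
    rw [Nat.sub_self, Subgroup.lowerCentralSeries_zero]
    exact hQH hx)
  exact h1.symm

/-- A Sylow `p`-subgroup inside a nilpotent subgroup `H` that controls fusion of its elements
forces the Frobenius condition. -/
theorem frobCond_of_nilpotent_fusion [Finite G] {p : ℕ} [Fact p.Prime] (P : Sylow p G)
    (H : Subgroup G) (hH : Group.IsNilpotent H) (hPH : (P : Subgroup G) ≤ H)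
    (hfus : ∀ x ∈ H, ∀ y ∈ H, (∃ g : G, g * x * g⁻¹ = y) → ∃ h ∈ H, h * x * h⁻¹ = y) :
    FrobCond p G := by
  apply frobCond_of_sylow P
  intro Q hQ g hg hcop
  apply centralizes_of_conj_in_nilpotent H hH Q (hQ.trans hPH) (P.2.to_le hQ) g hg hcop
  intro x hx
  have hy : g * x * g⁻¹ ∈ Q := (Subgroup.mem_normalizer_iff.mp hg x).mp hx
  obtain ⟨h, hh, hhx⟩ := hfus x (hPH (hQ hx)) _ (hPH (hQ hy)) ⟨g, rfl⟩
  exact ⟨h, hh, hhx.symm⟩

end Stability

end Cfsg.Agent.Lib.Helper1
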