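import Mathlib
import Cfsg.Agent.Lib.Helper1.FrobPC
import Cfsg.Agent.Lib.Helper1.Stability
import Cfsg.Agent.Lib.Helper1.Cores
import Cfsg.Agent.Lib.Helper1.SZ
import Cfsg.Agent.Lib.Helper1.Coprime

set_option autoImplicit false
set_option linter.style.haveILetI false

namespace Cfsg.Agent.Lib.Helper1

universe u

section Schmidt

variable {G : Type u} [Group G]

/-- If the Frobenius condition holds for all primes, every Sylow subgroup is normal. -/
theorem sylow_normal_of_frobCond [Finite G] (h : ∀ q : ℕ, q.Prime → FrobCond q G) {p : ℕ}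
    [Fact p.Prime] (P : Sylow p G) : (P : Subgroup G).Normal := by
  have hp : p.Prime := Fact.out
  obtain ⟨N, hNdef⟩ : ∃ N : Subgroup G,
      N = ⨅ q ∈ (Nat.card G).primeFactors.erase p, Cfsg.pResidual q G := ⟨_, rfl⟩
  have hNn : N.Normal := by
    rw [hNdef]
    apply Subgroup.normal_iInf_normal
    intro q
    apply Subgroup.normal_iInf_normal
    intro _
    exact pResidual_normal q
  have hPN : (P : Subgroup G) ≤ N := by
    rw [hNdef]
    apply le_iInf₂
    intro q hq
    have hq' := Finset.mem_erase.mp hq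
    have hqp : q.Prime := (Nat.mem_primeFactors.mp hq'.2).1
    intro s hs
    apply Subgroup.subset_closure
    show Nat.Coprime (orderOf s) q
    obtain ⟨j, hj⟩ := P.2 ⟨s, hs⟩
    have h1 : orderOf s ∣ p ^ j := by
      apply orderOf_dvd_of_pow_eq_one
      have := congrArg Subtype.val hj
      simpa using this
    exact Nat.Coprime.coprime_dvd_left h1
      (Nat.Coprime.pow_left j ((Nat.coprime_primes hp hqp).mpr (Ne.symm hq'.1)))
  have hNp : IsPGroup p N := by
    have hcard : Nat.card N = p ^ (Nat.card N).primeFactorsList.length := by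
      apply Nat.eq_prime_pow_of_unique_prime_dvd Nat.card_pos.ne'
      intro k hk hkN
      by_contra hkp
      haveI : Fact k.Prime := ⟨hk⟩
      have hkG : k ∣ Nat.card G := dvd_trans hkN (Subgroup.card_subgroup_dvd_card N)
      have h1 : N ≤ Cfsg.pResidual k G := by
        rw [hNdef]
        exact iInf₂_le k (Finset.mem_erase.mpr
          ⟨hkp, Nat.mem_primeFactors.mpr ⟨hk, hkG, Nat.card_pos.ne'⟩⟩)
      have h2 := frobCond_pResidual_coprime k (Nat.card G) G le_rfl (h k hk)
      have h3 : (Nat.card N).Coprime k :=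
        Nat.Coprime.coprime_dvd_left (Subgroup.card_dvd_of_le h1) h2
      exact hk.one_lt.ne' (Nat.Coprime.eq_one_of_dvd h3.symm hkN)
    exact IsPGroup.of_card hcard
  have hNP : N = (P : Subgroup G) := P.is_maximal' hNp hPN
  rw [← hNP]
  exact hNn

/-- If the Frobenius condition holds for all primes, the group is nilpotent. -/
theorem isNilpotent_of_frobCond [Finite G] (h : ∀ q : ℕ, q.Prime → FrobCond q G) :
    Group.IsNilpotent G :=
  ((Group.isNilpotent_of_finite_tfae (G := G)).out 0 3 rfl rfl).mpr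
    (fun p hp P => @sylow_normal_of_frobCond G _ _ h p hp P)

/-- The Schmidt configuration: if the Frobenius condition fails for `p` in `G` although inside
every proper subgroup `p'`-elements centralise the `p`-subgroups they normalise, then `G` is a
normal `p`-subgroup extended by a cyclic group of prime power order. -/
theorem schmidt_core [Finite G] (p : ℕ) [Fact p.Prime]
    (hprop : ∀ K : Subgroup G, K ≠ ⊤ → ∀ Q : Subgroup G, Q ≤ K → IsPGroup p Q → ∀ x ∈ K,
      x ∈ Subgroup.normalizer (Q : Set G) → (orderOf x).Coprime p →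
      x ∈ Subgroup.centralizer (Q : Set G))
    (hnot : ¬ FrobCond p G) :
    ∃ (Q : Subgroup G) (g : G) (r k : ℕ), r.Prime ∧ r ≠ p ∧ IsPGroup p Q ∧ Q.Normal ∧
      orderOf g = r ^ k ∧ g ∉ Subgroup.centralizer (Q : Set G) ∧
      Q ⊔ Subgroup.zpowers g = ⊤ ∧ Q ⊓ Subgroup.zpowers g = ⊥ ∧
      Nat.card Q * r ^ k = Nat.card G := by
  have hp : p.Prime := Fact.out
  unfold FrobCond at hnot
  push Not at hnot
  obtain ⟨Q, hQ, g, hg, hcop, hgc⟩ := hnot
  have htop : Q ⊔ Subgroup.zpowers g = ⊤ := by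
    by_contra hne
    exact hgc (hprop _ hne Q le_sup_left hQ g
      (Subgroup.mem_sup_right (Subgroup.mem_zpowers g)) hg hcop)
  have hQn : Q.Normal := by
    have h1 : Q ⊔ Subgroup.zpowers g ≤ Subgroup.normalizer (Q : Set G) :=
      sup_le Subgroup.le_normalizer (by rw [Subgroup.zpowers_le]; exact hg)
    rw [htop, top_le_iff] at h1
    exact Subgroup.normalizer_eq_top_iff.mp h1
  haveI := hQn
  obtain ⟨m, hmdef⟩ : ∃ m, m = orderOf g := ⟨_, rfl⟩
  have hm0 : 0 < m := hmdef ▸ orderOf_pos g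
  have hcardC : Nat.card (Subgroup.zpowers g) = m := by rw [hmdef]; exact Nat.card_zpowers g
  obtain ⟨n, hn⟩ := IsPGroup.iff_card.mp hQ
  have hcopC : (Nat.card (Subgroup.zpowers g)).Coprime (Nat.card Q) := by
    rw [hcardC, hn, hmdef]
    exact Nat.Coprime.pow_right n hcop
  have hdisj : Q ⊓ Subgroup.zpowers g = ⊥ := inf_eq_bot_of_coprime_card hcopC
  have hcompl : Q.IsComplement' (Subgroup.zpowers g) := by
    apply isComplement'_of_disjoint_of_mul hdisj
    intro x
    have hx : x ∈ ((Q ⊔ Subgroup.zpowers g : Subgroup G) : Set G) := by rw [htop]; trivial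
    rw [Subgroup.normal_mul] at hx
    obtain ⟨a, ha, b, hb, rfl⟩ := hx
    exact ⟨a, ha, b, hb, rfl⟩
  have hcard : Nat.card Q * m = Nat.card G := by rw [← hcardC]; exact hcompl.card_mul_card
  have hpow : ∀ j : ℕ, orderOf (g ^ j) < m → g ^ j ∈ Subgroup.centralizer (Q : Set G) := by
    intro j hj
    have hne : Q ⊔ Subgroup.zpowers (g ^ j) ≠ ⊤ := by
      intro htop'
      have h1 : Nat.card (Subgroup.zpowers (g ^ j) ⊔ Q : Subgroup G) ∣
          Nat.card (Subgroup.zpowers (g ^ j)) * Nat.card Q := card_sup_dvd_mul_of_normal _ Q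
      rw [sup_comm, htop', Subgroup.card_top, Nat.card_zpowers, ← hcard] at h1
      have h2 := Nat.le_of_dvd (Nat.mul_pos (orderOf_pos _) Nat.card_pos) h1
      have h3 : orderOf (g ^ j) * Nat.card Q < m * Nat.card Q :=
        Nat.mul_lt_mul_of_pos_right hj Nat.card_pos
      rw [mul_comm m] at h3
      omega
    refine hprop _ hne Q le_sup_left hQ (g ^ j)
      (Subgroup.mem_sup_right (Subgroup.mem_zpowers _)) (Subgroup.pow_mem _ hg j) ?_
    exact Nat.Coprime.coprime_dvd_left (orderOf_pow_dvd j) hcop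
  have hm1 : m ≠ 1 := by
    intro h1
    apply hgc
    have h2 : g = 1 := orderOf_eq_one_iff.mp (hmdef ▸ h1)
    rw [h2]
    exact Subgroup.one_mem _
  obtain ⟨r, hr, hrm⟩ := Nat.exists_prime_and_dvd hm1
  obtain ⟨k, m', hm', hmeq⟩ := Nat.exists_eq_pow_mul_and_not_dvd hm0.ne' r hr.ne_one
  have hk : k ≠ 0 := by
    rintro rfl
    rw [pow_zero, one_mul] at hmeq
    exact hm' (hmeq ▸ hrm)
  have hm'1 : m' = 1 := by
    by_contra hne
    have hm'pos : 0 < m' := by
      rcases Nat.eq_zero_or_pos m' with h0 | h0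
      · rw [h0, mul_zero] at hmeq; omega
      · exact h0
    have hm'2 : 2 ≤ m' := by omega
    have hrk2 : 2 ≤ r ^ k := le_trans hr.two_le (Nat.le_self_pow hk r)
    have h1 : g ^ m' ∈ Subgroup.centralizer (Q : Set G) := by
      apply hpow
      have hd : orderOf (g ^ m') ∣ r ^ k := by
        apply orderOf_dvd_of_pow_eq_one
        rw [← pow_mul, mul_comm, ← hmeq, hmdef, pow_orderOf_eq_one]
      have h5 := Nat.le_of_dvd (by positivity) hd
      nlinarith
    have h2 : g ^ (r ^ k) ∈ Subgroup.centralizer (Q : Set G) := by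
      apply hpow
      have hd : orderOf (g ^ (r ^ k)) ∣ m' := by
        apply orderOf_dvd_of_pow_eq_one
        rw [← pow_mul, ← hmeq, hmdef, pow_orderOf_eq_one]
      have h5 := Nat.le_of_dvd hm'pos hd
      nlinarith
    have hcop' : Nat.Coprime m' (r ^ k) :=
      Nat.Coprime.pow_right k ((Nat.Prime.coprime_iff_not_dvd hr).mpr hm').symm
    have hb : (1 : ℤ) = m' * Nat.gcdA m' (r ^ k) + (r ^ k : ℕ) * Nat.gcdB m' (r ^ k) := by
      rw [← Nat.gcd_eq_gcd_ab, hcop'.gcd_eq_one]; rfl
    have hg' : g = (g ^ m') ^ (Nat.gcdA m' (r ^ k)) * (g ^ (r ^ k)) ^ (Nat.gcdB m' (r ^ k)) := by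
      rw [← zpow_natCast, ← zpow_natCast, ← zpow_mul, ← zpow_mul, ← zpow_add, ← hb, zpow_one]
    apply hgc
    rw [hg']
    exact Subgroup.mul_mem _ (Subgroup.zpow_mem _ h1 _) (Subgroup.zpow_mem _ h2 _)
  rw [hm'1, mul_one] at hmeq
  have hrp : r ≠ p := by
    rintro rfl
    rw [← hmdef] at hcop
    exact hr.one_lt.ne' (Nat.Coprime.eq_one_of_dvd hcop.symm hrm)
  exact ⟨Q, g, r, k, hr, hrp, hQ, hQn, by rw [← hmdef, hmeq], hgc, htop, hdisj,
    by rw [← hmeq]; exact hcard⟩

/-- In the Schmidt configuration both factors are Sylow subgroups. -/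
theorem schmidt_sylows [Finite G] {p r k : ℕ} [Fact p.Prime] (hr : r.Prime) (hrp : r ≠ p)
    {Q : Subgroup G} {g : G} (hQ : IsPGroup p Q) (hord : orderOf g = r ^ k)
    (hcard : Nat.card Q * r ^ k = Nat.card G) :
    (∃ P : Sylow r G, (P : Subgroup G) = Subgroup.zpowers g) ∧
      ∃ Q' : Sylow p G, (Q' : Subgroup G) = Q := by
  have hp : p.Prime := Fact.out
  haveI : Fact r.Prime := ⟨hr⟩
  obtain ⟨n, hn⟩ := IsPGroup.iff_card.mp hQ
  constructor
  · have hC : IsPGroup r (Subgroup.zpowers g) :=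
      IsPGroup.of_card (n := k) (by rw [Nat.card_zpowers, hord])
    have hidx : ¬ r ∣ (Subgroup.zpowers g).index := by
      have h1 : Nat.card (Subgroup.zpowers g) * (Subgroup.zpowers g).index = Nat.card G :=
        Subgroup.card_mul_index _
      rw [Nat.card_zpowers, hord, ← hcard, mul_comm] at h1
      have h2 : (Subgroup.zpowers g).index = Nat.card Q :=
        Nat.eq_of_mul_eq_mul_right (pow_pos hr.pos k) h1
      rw [h2, hn]
      intro hdvd
      exact hrp ((Nat.prime_dvd_prime_iff_eq hr hp).mp (hr.dvd_of_dvd_pow hdvd))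
    exact ⟨hC.toSylow hidx, IsPGroup.toSylow_coe _ _⟩
  · have hidx : ¬ p ∣ Q.index := by
      have h1 : Nat.card Q * Q.index = Nat.card G := Subgroup.card_mul_index _
      rw [← hcard] at h1
      have h2 : Q.index = r ^ k := Nat.eq_of_mul_eq_mul_left Nat.card_pos h1
      rw [h2]
      intro hdvd
      exact hrp ((Nat.prime_dvd_prime_iff_eq hp hr).mp (hp.dvd_of_dvd_pow hdvd)).symm
    exact ⟨hQ.toSylow hidx, IsPGroup.toSylow_coe _ _⟩

end Schmidt

end Cfsg.Agent.Lib.Helper1
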